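/-
Bases, orthonormal completions and elements moving bases in `SU_4`.
-/
import Cfsg.Agent.Lib.MaxSub.PairMaximalSU

set_option autoImplicit false
set_option maxHeartbeats 400000
set_option linter.unusedSectionVars false

namespace CfsgLib.MaxSub.SUFour

open Matrix Module Cfsg Cfsg.Geo CfsgLib.UnitaryTransvection
open CfsgLib.MaxSub.PairSU (IsS IsT exists_S exists_T h_zero gl_ext)

variable {F : Type*} [Field F] [Fintype F] {q : ℕ} {hF : Fintype.card F = q ^ 2}

local notation "V" => Fin 4 → F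
local notation "h" => Cfsg.hermForm 4 F q
local notation "σ" => frob hF
local notation "M4" => Matrix (Fin 4) (Fin 4) F
local notation "G" => Cfsg.GU 4 F q ⊓ specialLinear (Fin 4) F

include hF

theorem h_zero_left (v : V) : h 0 v = 0 := by
  rw [← zero_smul F v, h_smul_left, zero_mul]

theorem h_zero_right (v : V) : h v 0 = 0 := h_zero (hF := hF) (h_zero_left (hF := hF) v)

theorem h_ne {u v : V} (e : h u v ≠ 0) : h v u ≠ 0 := fun e' => e (h_zero (hF := hF) e')

theorem h_self (v : V) : σ (h v v) = h v v := h_swap hF v v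

theorem h_sum_left {ι : Type*} (s : Finset ι) (f : ι → V) (x : V) :
    h (∑ i ∈ s, f i) x = ∑ i ∈ s, h (f i) x :=
  map_sum (AddMonoidHom.mk' (fun y => h y x) fun a b => h_add_left a b x) f s

theorem h_sum_right {ι : Type*} (s : Finset ι) (f : ι → V) (x : V) :
    h x (∑ i ∈ s, f i) = ∑ i ∈ s, h x (f i) :=
  map_sum (AddMonoidHom.mk' (fun y => h x y) fun a b => h_add_right hF x a b) f s

omit hF in
/-- The matrix with prescribed columns. -/
def colM (b : Fin 4 → V) : M4 := Matrix.of fun i j => b j i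

omit hF in
theorem colM_mulVec (b : Fin 4 → V) (x : V) : colM b *ᵥ x = ∑ i, x i • b i := by
  funext k
  simp [colM, Matrix.mulVec, dotProduct, Finset.sum_apply, mul_comm]

omit hF in
theorem colM_single (b : Fin 4 → V) (i : Fin 4) : colM b *ᵥ Pi.single i 1 = b i := by
  rw [Matrix.mulVec_single_one]; rfl

/-- Orthogonal anisotropic vectors are independent. -/
theorem indep_of_orth {k : ℕ} {b : Fin k → V} (ho : ∀ i j, i ≠ j → h (b i) (b j) = 0)
    (ha : ∀ i, h (b i) (b i) ≠ 0) : LinearIndependent F b := by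
  rw [Fintype.linearIndependent_iff]
  intro c hc i
  have e := congrArg (fun y => h y (b i)) hc
  simp only [h_sum_left (hF := hF), h_zero_left (hF := hF), h_smul_left] at e
  rw [Finset.sum_eq_single i (fun j _ hj => by rw [ho j i hj, mul_zero]) (by simp)] at e
  exact (mul_eq_zero.1 e).resolve_right (ha i)

/-- A vector with a prescribed norm. -/
theorem exists_scale {v : V} (hv : h v v ≠ 0) {c : F} (hc : σ c = c) :
    ∃ t : F, h (t • v) (t • v) = c ∧ (c ≠ 0 → t ≠ 0) := by
  obtain ⟨t, ht⟩ := exists_norm_eq hF (c := c / h v v) (by rw [map_div₀, hc, h_self (hF := hF)])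
  refine ⟨t, ?_, fun h0 e => ?_⟩
  · rw [h_smul_left, h_smul_right hF, ← mul_assoc, ht, div_mul_cancel₀ _ hv]
  · rw [e, zero_mul, eq_comm, div_eq_zero_iff] at ht
    exact ht.elim h0 hv

/-- A unit vector perpendicular to fewer than four orthonormal ones. -/
theorem exists_unit {k : ℕ} (hk : k < 4) {b : Fin k → V}
    (hb : ∀ i j, h (b i) (b j) = if i = j then 1 else 0) :
    ∃ u, h u u = 1 ∧ ∀ i, h u (b i) = 0 := by
  classical
  let π : V → V := fun y => y - ∑ i, h y (b i) • b i
  have hπ : ∀ y i, h (π y) (b i) = 0 := fun y i => by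
    simp only [π, h_sub_left, h_sum_left (hF := hF), h_smul_left, hb, mul_ite, mul_one, mul_zero,
      Finset.sum_ite_eq', Finset.mem_univ, if_true, sub_self]
  by_contra hc
  push Not at hc
  have hiso : ∀ w, (∀ i, h w (b i) = 0) → h w w = 0 := fun w hw => by
    by_contra hne
    obtain ⟨t, ht, -⟩ := exists_scale (hF := hF) hne (map_one σ)
    obtain ⟨i, hi⟩ := hc _ ht
    exact hi (by rw [h_smul_left, hw i, mul_zero])
  have hzero : ∀ y z, h (π y) (π z) = 0 := by
    intro y z
    by_contra hne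
    obtain ⟨d, hd⟩ := exists_trace_one hF
    set s := σ (d / h (π y) (π z)) with hs
    have := hiso (π y + s • π z) fun i => by rw [h_add_left, h_smul_left, hπ, hπ, mul_zero, add_zero]
    rw [h_add_left, h_add_right hF, h_add_right hF, h_smul_left, h_smul_left, h_smul_right hF,
      h_smul_right hF, hiso _ (hπ y), hiso _ (hπ z), hs, frob_frob hF, ← h_swap hF (π y) (π z),
      ← map_mul, div_mul_cancel₀ _ hne] at this
    exact one_ne_zero (α := F) (by linear_combination this - hd)
  have hπ0 : ∀ y, π y = 0 := fun y => h_nondeg hF fun z => by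
    have e : z = π z + ∑ i, h z (b i) • b i := (sub_add_cancel _ _).symm
    rw [e, h_add_right hF, hzero, h_sum_right (hF := hF), zero_add]
    exact Finset.sum_eq_zero fun i _ => by rw [h_smul_right hF, hπ y i, mul_zero]
  have hsp : (⊤ : Submodule F V) ≤ Submodule.span F (Set.range b) := fun y _ => by
    rw [sub_eq_zero.1 (hπ0 y)]
    exact Submodule.sum_mem _ fun i _ => Submodule.smul_mem _ _ (Submodule.subset_span ⟨i, rfl⟩)
  have := (Submodule.finrank_mono hsp).trans (finrank_range_le_card b)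
  rw [finrank_top, Module.finrank_fin_fun, Fintype.card_fin] at this
  omega

/-- An orthonormal basis extending two orthogonal unit vectors. -/
theorem exists_basis_two {e u : V} (he : h e e = 1) (hu : h u u = 1) (heu : h e u = 0) :
    ∃ c d : V, ∀ i j, h (![e, u, c, d] i) (![e, u, c, d] j) = if i = j then 1 else 0 := by
  have hue := h_zero (hF := hF) heu
  have h2 : ∀ i j : Fin 2, h (![e, u] i) (![e, u] j) = if i = j then 1 else 0 := fun i j => by
    fin_cases i <;> fin_cases j <;> simp [he, hu, heu, hue]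
  obtain ⟨c, hc, hcb⟩ := exists_unit (hF := hF) (by norm_num) h2
  have hce : h c e = 0 := hcb 0
  have hcu : h c u = 0 := hcb 1
  have hec := h_zero (hF := hF) hce
  have huc := h_zero (hF := hF) hcu
  have h3 : ∀ i j : Fin 3, h (![e, u, c] i) (![e, u, c] j) = if i = j then 1 else 0 := fun i j => by
    fin_cases i <;> fin_cases j <;> simp [he, hu, hc, heu, hue, hce, hec, hcu, huc]
  obtain ⟨d, hd, hdb⟩ := exists_unit (hF := hF) (by norm_num) h3
  have hde : h d e = 0 := hdb 0
  have hdu : h d u = 0 := hdb 1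
  have hdc : h d c = 0 := hdb 2
  have hed := h_zero (hF := hF) hde
  have hud := h_zero (hF := hF) hdu
  have hcd := h_zero (hF := hF) hdc
  refine ⟨c, d, fun i j => ?_⟩
  fin_cases i <;> fin_cases j <;>
    simp [he, hu, hc, hd, heu, hue, hce, hec, hcu, huc, hde, hed, hdu, hud, hdc, hcd]

/-- An orthonormal basis starting with a given unit vector and an orthogonal one. -/
theorem exists_basis_one {e : V} (he : h e e = 1) : ∃ u c d : V,
    ∀ i j, h (![e, u, c, d] i) (![e, u, c, d] j) = if i = j then 1 else 0 := by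
  obtain ⟨u, hu, hub⟩ := exists_unit (hF := hF) (k := 1) (by norm_num) (b := fun _ => e)
    fun i j => by rw [Subsingleton.elim i j, if_pos rfl, he]
  obtain ⟨c, d, hcd⟩ := exists_basis_two (hF := hF) he hu (h_zero (hF := hF) (hub 0))
  exact ⟨u, c, d, hcd⟩

/-- The linear map between two bases with the same Gram matrix, as an isometry. -/
theorem exists_map {b b' : Fin 4 → V} (hb : LinearIndependent F b)
    (hg : ∀ i k, h (b' i) (b' k) = h (b i) (b k)) :
    ∃ A : M4, (∀ x y, h (A *ᵥ x) (A *ᵥ y) = h x y) ∧ A.det * σ A.det = 1 ∧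
      ∀ i, A *ᵥ b i = b' i := by
  have hu : IsUnit (colM b) := Matrix.linearIndependent_cols_iff_isUnit.1
    (by show LinearIndependent F (fun j => (colM b).col j); exact hb)
  obtain ⟨N, hN⟩ := hu
  set A := colM b' * ((N⁻¹ : M4ˣ) : M4) with hA
  have hAb : ∀ y, A *ᵥ (colM b *ᵥ y) = colM b' *ᵥ y := fun y => by
    rw [hA, Matrix.mulVec_mulVec, mul_assoc, ← hN, Units.inv_mul, mul_one]
  have hexp : ∀ (c : Fin 4 → V) (x y : V),
      h (colM c *ᵥ x) (colM c *ᵥ y) = ∑ i, ∑ k, x i * σ (y k) * h (c i) (c k) := fun c x y => by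
    rw [colM_mulVec, colM_mulVec, h_sum_left (hF := hF)]
    refine Finset.sum_congr rfl fun i _ => ?_
    rw [h_sum_right (hF := hF)]
    refine Finset.sum_congr rfl fun k _ => ?_
    rw [h_smul_left, h_smul_right hF]; ring
  have hsurj : ∀ x, ∃ y, colM b *ᵥ y = x := fun x => ⟨((N⁻¹ : M4ˣ) : M4) *ᵥ x, by
    rw [Matrix.mulVec_mulVec, ← hN, Units.mul_inv, Matrix.one_mulVec]⟩
  have hiso : ∀ x y, h (A *ᵥ x) (A *ᵥ y) = h x y := fun x y => by
    obtain ⟨x, rfl⟩ := hsurj x
    obtain ⟨y, rfl⟩ := hsurj y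
    rw [hAb, hAb, hexp, hexp]
    simp only [hg]
  have hinj : Function.Injective (Matrix.mulVec A) := fun x y e => sub_eq_zero.1
    (h_nondeg hF fun z => by
      rw [← hiso, Matrix.mulVec_sub, e, sub_self, h_zero_left (hF := hF)])
  have hd0 : A.det ≠ 0 :=
    ((Matrix.isUnit_iff_isUnit_det A).1 (Matrix.mulVec_injective_iff_isUnit.1 hinj)).ne_zero
  refine ⟨A, hiso, ?_, fun i => by rw [← colM_single b i, hAb, colM_single]⟩
  have hmem : Matrix.GeneralLinearGroup.mkOfDetNeZero A hd0 ∈ Cfsg.GU 4 F q := fun u v => hiso u v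
  have := congrArg Units.val (UnitaryBasic.det_pow hF hmem)
  rw [frob_apply, ← pow_succ']
  simpa using this

/-- The map in `SU_4`, one orthogonal anisotropic column being scaled. -/
theorem exists_trans {b b' : Fin 4 → V} (hb : LinearIndependent F b)
    (hg : ∀ i k, h (b' i) (b' k) = h (b i) (b k)) (j : Fin 4) (hj : ∀ k, k ≠ j → h (b' j) (b' k) = 0)
    (ha : h (b' j) (b' j) ≠ 0) :
    ∃ g ∈ G, (∀ i, i ≠ j → (g : M4) *ᵥ b i = b' i) ∧
      ∃ e : F, e * σ e = 1 ∧ (g : M4) *ᵥ b j = e • b' j := by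
  obtain ⟨A, hA, hdet, hAb⟩ := exists_map (hF := hF) hb hg
  have hd0 : A.det ≠ 0 := left_ne_zero_of_mul_eq_one hdet
  have hs : σ A.det ≠ 0 := right_ne_zero_of_mul_eq_one hdet
  set c := (A.det⁻¹ - 1) / h (b' j) (b' j) with hc
  have hgood : Good hF (b' j) c := by
    rw [Good, hc, map_div₀, map_sub, map_inv₀, map_one, h_self (hF := hF)]
    field_simp
    linear_combination -hdet
  have hdT : (Cfsg.unitaryTransvection 4 q (b' j) c * A).det = 1 := by
    rw [Matrix.det_mul, det_tmat, hc, div_mul_cancel₀ _ ha, add_sub_cancel, inv_mul_cancel₀ hd0]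
  refine ⟨sg _ hdT, sg_mem (fun u v => by
    rw [← Matrix.mulVec_mulVec, ← Matrix.mulVec_mulVec, tmat_isometry hF hgood, hA]) hdT,
    fun i hi => ?_, A.det⁻¹, ?_, ?_⟩
  · show (Cfsg.unitaryTransvection 4 q (b' j) c * A) *ᵥ b i = b' i
    rw [← Matrix.mulVec_mulVec, hAb, tmat_mulVec, h_zero (hF := hF) (hj i hi), mul_zero, zero_smul,
      add_zero]
  · rw [map_inv₀, ← mul_inv, hdet, inv_one]
  · show (Cfsg.unitaryTransvection 4 q (b' j) c * A) *ᵥ b j = _
    rw [← Matrix.mulVec_mulVec, hAb, tmat_mulVec, hc, div_mul_cancel₀ _ ha, sub_smul, one_smul,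
      add_sub_cancel]

/-- Moving orthonormal bases. -/
theorem exists_trans_unit {b b' : Fin 4 → V} (hb : ∀ i k, h (b i) (b k) = if i = k then 1 else 0)
    (hb' : ∀ i k, h (b' i) (b' k) = if i = k then 1 else 0) (j : Fin 4) :
    ∃ g ∈ G, (∀ i, i ≠ j → (g : M4) *ᵥ b i = b' i) ∧
      ∃ e : F, e * σ e = 1 ∧ (g : M4) *ᵥ b j = e • b' j :=
  exists_trans (hF := hF)
    (indep_of_orth (hF := hF) (fun i k hik => by rw [hb, if_neg hik])
      fun i => by rw [hb, if_pos rfl]; exact one_ne_zero)
    (fun i k => by rw [hb', hb]) j (fun k hk => by rw [hb', if_neg (Ne.symm hk)])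
    (by rw [hb', if_pos rfl]; exact one_ne_zero)

omit hF in
/-- Membership in the stabiliser of a decomposition from the images of the parts. -/
theorem mem_decomp_stab {t m : ℕ} {D : Fin t → Submodule F V} (hD : IsMDecomposition m D)
    {g : GL (Fin 4) F} (s : Equiv.Perm (Fin t)) (hs : ∀ i, ∀ x ∈ D i, (g : M4) *ᵥ x ∈ D (s i)) :
    g ∈ decompositionStabilizer D := by
  refine ⟨s, fun i => Submodule.eq_of_le_of_finrank_eq ?_ ?_⟩
  · rintro _ ⟨x, hx, rfl⟩
    rw [Matrix.toLin'_apply]
    exact hs i x hx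
  · rw [hD.finrank_eq, ← LinearEquiv.finrank_eq (Submodule.equivMapOfInjective _
      (show Function.Injective (Matrix.toLin' (g : M4)) from
        Matrix.mulVec_injective_iff_isUnit.2 g.isUnit) (D i)), hD.finrank_eq]

end CfsgLib.MaxSub.SUFour
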