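/-
Totally isotropic subspaces and two kinds of subfield subgroups in `SU_4`.
-/
import Cfsg.Agent.Lib.MaxSub.SubspaceMaximalUnitary
import Cfsg.Agent.Lib.MaxSub.SubfieldMaximalGU
import Cfsg.Agent.Lib.MaxSub.SubfieldMaximalSU

set_option autoImplicit false

namespace CfsgLib.MaxSub.SUFour

open Matrix Module Cfsg Cfsg.Geo CfsgLib.UnitaryTransvection

variable {F : Type*} [Field F] [Fintype F] {q : ℕ}

local notation "h" => Cfsg.hermForm 4 F q
local notation "G" => Cfsg.GU 4 F q ⊓ specialLinear (Fin 4) F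

/-- Totally isotropic subspaces. -/
theorem su4_singular_maximal (hF : Fintype.card F = q ^ 2) {W : Submodule F (Fin 4 → F)} (hW0 : W ≠ ⊥)
    (hW : IsTotallySingularFor h W) : IsMaximalIn G (subspaceStabilizer W ⊓ G) :=
  CfsgLib.MaxSub.su_singular_maximal (le_refl 4) hF hW0 hW

/-- Subfields of odd prime index. -/
theorem su4_subfield_maximal (hF : Fintype.card F = q ^ 2) {F₀ : Subfield F} {r : ℕ} {P : GL (Fin 4) F}
    (hr : r.Prime) (hro : Odd r) (hc : Fintype.card F = Nat.card F₀ ^ r)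
    (hP : IsFormRationalStructure h F₀ 1 P) : IsMaximalIn G (subfieldSubgroup F₀ P ⊓ G) :=
  CfsgLib.MaxSub.SubfieldGU.gu_subfield_maximal_of hF (Or.inl rfl) hr hro hc hP

/-- The symplectic subfield subgroups. -/
theorem su4_symplectic_maximal (hF : Fintype.card F = q ^ 2) {F₀ : Subfield F} {P : GL (Fin 4) F} {ζ : F}
    (hcard : Fintype.card F = Nat.card F₀ ^ 2) (hζ0 : ζ ≠ 0) (hζ : ζ + ζ ^ q = 0)
    (hP : IsFormRationalStructure h F₀ ζ P)
    (halt : ∀ u : Fin 4 → F, (∀ i, u i ∈ F₀) →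
      h ((P : Matrix (Fin 4) (Fin 4) F) *ᵥ u) ((P : Matrix (Fin 4) (Fin 4) F) *ᵥ u) = 0) :
    IsMaximalIn G (subfieldSubgroup F₀ P ⊓ G) := by
  have hcq : Nat.card F₀ = q :=
    (Nat.pow_left_injective (by norm_num : (2:ℕ) ≠ 0) (show Nat.card F₀ ^ 2 = q ^ 2 by rw [← hcard, hF]))
  have hskew : frob hF ζ = -ζ := by
    rw [frob_apply hF, eq_neg_iff_add_eq_zero, add_comm, hζ]
  exact CfsgLib.MaxSub.SubfieldSU.su_subfield_sp_maximal (hF := hF)
    ⟨hcq, hζ0, hskew, hP, halt⟩ (le_refl 4) hcard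

end CfsgLib.MaxSub.SUFour
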