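/-
Stabilisers of non-degenerate points are maximal in `SU_4`.
-/
import Cfsg.Agent.Lib.MaxSub.SUFour.Basic

set_option autoImplicit false
set_option maxHeartbeats 400000
set_option linter.unusedSectionVars false

namespace CfsgLib.MaxSub.SUFour

open Matrix Module Cfsg Cfsg.Geo CfsgLib.UnitaryTransvection
open CfsgLib.MaxSub.PairSU (IsS IsT exists_S exists_T h_zero gl_ext)

variable {F : Type*} [Field F] [Fintype F] {q : ℕ} {hF : Fintype.card F = q ^ 2}

local notation "V" => Fin 4 → F
local notation "h" => Cfsg.hermForm 4 F q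
local notation "σ" => frob hF
local notation "M4" => Matrix (Fin 4) (Fin 4) F
local notation "G" => Cfsg.GU 4 F q ⊓ specialLinear (Fin 4) F

include hF

/-- The expansion in an orthonormal basis. -/
theorem eq_of_values {b : Fin 4 → V} (hb : ∀ i j, h (b i) (b j) = if i = j then 1 else 0) {x y : V}
    (e : ∀ i, h x (b i) = h y (b i)) : x = y := by
  refine sub_eq_zero.1 (h_nondeg hF fun z => ?_)
  have hsp : Submodule.span F (Set.range b) = ⊤ :=
    (indep_of_orth (hF := hF) (fun i k hik => by rw [hb, if_neg hik])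
      (fun i => by rw [hb, if_pos rfl]; exact one_ne_zero)).span_eq_top_of_card_eq_finrank (by simp)
  obtain ⟨c, rfl⟩ := (Submodule.mem_span_range_iff_exists_fun F).1
    (hsp ▸ Submodule.mem_top : z ∈ Submodule.span F (Set.range b))
  rw [h_sum_right (hF := hF)]
  exact Finset.sum_eq_zero fun i _ => by rw [h_smul_right hF, h_sub_left, e, sub_self, mul_zero]

/-- A vector killed by the isotropic vectors of a unit's perpendicular is a multiple of the unit. -/
theorem eq_smul_of_iso_perp {e y : V} (he : h e e = 1)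
    (hy : ∀ v, h v v = 0 → h v e = 0 → h v y = 0) : y = h y e • e := by
  obtain ⟨u, c, d, hb⟩ := exists_basis_one (hF := hF) he
  obtain ⟨t, ht⟩ := exists_norm_eq hF (c := (-1 : F)) (by rw [map_neg, map_one])
  obtain ⟨w, hw1, hw⟩ := exists_omega hF
  have ht0 : t ≠ 0 := fun e' => by rw [e', zero_mul] at ht; exact neg_ne_zero.2 one_ne_zero ht.symm
  have key : ∀ i j : Fin 4, i ≠ 0 → j ≠ 0 → i ≠ j →
      h (![e, u, c, d] i) y = 0 ∧ h (![e, u, c, d] j) y = 0 := by
    intro i j hi hj hij
    set b := ![e, u, c, d] with hbdef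
    have hiso : ∀ r : F, r * σ r = -1 → h (b i) y + r * h (b j) y = 0 := fun r hr => by
      have h0 : h (b i + r • b j) (b i + r • b j) = 0 := by
        rw [h_add_left, h_add_right hF, h_add_right hF, h_smul_left, h_smul_left, h_smul_right hF,
          h_smul_right hF, hb, hb, hb, hb, if_pos rfl, if_neg hij, if_neg (Ne.symm hij), if_pos rfl]
        linear_combination hr
      have h1 : h (b i + r • b j) e = 0 := by
        have ee : e = b 0 := rfl
        rw [ee, h_add_left, h_smul_left, hb, hb, if_neg hi, if_neg hj, mul_zero, add_zero]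
      have := hy _ h0 h1
      rwa [h_add_left, h_smul_left] at this
    have e1 := hiso t ht
    have e2 := hiso (w * t) (by rw [map_mul]; linear_combination (t * σ t) * hw + ht)
    have hj0 : h (b j) y = 0 :=
      (mul_eq_zero.1 (show ((w - 1) * t) * h (b j) y = 0 by linear_combination e2 - e1)).resolve_left
        (mul_ne_zero (sub_ne_zero.2 hw1) ht0)
    exact ⟨by rwa [hj0, mul_zero, add_zero] at e1, hj0⟩
  refine eq_of_values (hF := hF) hb fun i => ?_
  rw [h_smul_left]
  fin_cases i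
  · show h y e = h y e * h e e
    rw [he, mul_one]
  · have h2 := (key 1 2 (by decide) (by decide) (by decide)).1
    show h y u = h y e * h e u
    rw [show h y u = 0 from h_zero (hF := hF) h2, show h e u = 0 from (hb 0 1).trans (if_neg (by decide)), mul_zero]
  · have h2 := (key 1 2 (by decide) (by decide) (by decide)).2
    show h y c = h y e * h e c
    rw [show h y c = 0 from h_zero (hF := hF) h2, show h e c = 0 from (hb 0 2).trans (if_neg (by decide)), mul_zero]
  · have h2 := (key 1 3 (by decide) (by decide) (by decide)).2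
    show h y d = h y e * h e d
    rw [show h y d = 0 from h_zero (hF := hF) h2, show h e d = 0 from (hb 0 3).trans (if_neg (by decide)), mul_zero]

omit hF in
theorem inv_mulVec (g : GL (Fin 4) F) (x : V) :
    ((g⁻¹ : GL (Fin 4) F) : M4) *ᵥ ((g : M4) *ᵥ x) = x := by
  rw [Matrix.mulVec_mulVec, Units.inv_mul, Matrix.one_mulVec]

omit hF in
theorem mul_inv_mulVec (g : GL (Fin 4) F) (x : V) :
    (g : M4) *ᵥ (((g⁻¹ : GL (Fin 4) F) : M4) *ᵥ x) = x := by
  rw [Matrix.mulVec_mulVec, Units.mul_inv, Matrix.one_mulVec]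

/-- Stabilisers of non-degenerate points are maximal in `SU_4`. -/
theorem su4_point_maximal {W : Submodule F V} (hW0 : W ≠ ⊥) (hW : IsNondegenerateOn h W)
    (hdim : 2 * finrank F W < 4) : IsMaximalIn G (subspaceStabilizer W ⊓ G) := by
  obtain ⟨w, hwW, hw0⟩ := Submodule.exists_mem_ne_zero_of_ne_bot hW0
  have h1 : finrank F W = 1 := by
    have := Submodule.one_le_finrank_iff.2 hW0
    omega
  have hWspan : ∀ x ∈ W, ∃ a : F, x = a • w := fun x hx => by
    obtain ⟨a, ha⟩ := (finrank_eq_one_iff_of_nonzero' (⟨w, hwW⟩ : W)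
      (fun e => hw0 (congrArg Subtype.val e))).1 h1 ⟨x, hx⟩
    exact ⟨a, (congrArg Subtype.val ha).symm⟩
  have hww : h w w ≠ 0 := fun e0 => by
    obtain ⟨-, y, hy, hne⟩ := hW w hwW hw0
    obtain ⟨a, rfl⟩ := hWspan y hy
    exact hne (by rw [h_smul_right hF, e0, mul_zero])
  obtain ⟨s, hs, hs0⟩ := exists_scale (hF := hF) hww (map_one σ)
  obtain ⟨e, he⟩ : ∃ e, e = s • w := ⟨_, rfl⟩
  rw [← he] at hs
  have heW : e ∈ W := he ▸ W.smul_mem s hwW
  have hmemW : ∀ x ∈ W, ∃ a : F, x = a • e := fun x hx => by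
    obtain ⟨a, rfl⟩ := hWspan x hx
    exact ⟨a / s, by rw [he, smul_smul, div_mul_cancel₀ _ (hs0 one_ne_zero)]⟩
  have hW1 : W ≠ ⊤ := fun e' => by
    rw [e', finrank_top, Module.finrank_fin_fun] at h1; omega
  refine isMaximalIn_of (G_not_le (le_refl 4) hF hW0 hW1) fun K hKG hHK g hg hgW => ?_
  refine SU_le_of_ctr (hF := hF) (le_refl 4) fun z hz => ?_
  have hSS : ∀ v, h v v = 0 → h v e = 0 → Ctr hF K v := fun v hvv hve u c hc hu =>
    hHK ⟨mem_stab_of_maps fun x hx => by
      obtain ⟨a, rfl⟩ := hmemW x hx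
      rw [hu, tmat_mulVec, h_smul_left, h_zero (hF := hF) hve, mul_zero, mul_zero, zero_smul, add_zero]
      exact W.smul_mem a heW,
    fun a b => by
      show h ((u : M4) *ᵥ a) ((u : M4) *ᵥ b) = h a b
      rw [hu]
      exact tmat_isometry hF (show Good hF v c by rw [Good, hvv, mul_zero, add_zero, hc]) a b,
    Units.ext (by
      show (u : M4).det = 1
      rw [hu, det_tmat, hvv, mul_zero, add_zero])⟩
  have hgi := G_isometry (hKG hg)
  obtain ⟨v, hvv, hve, hgv⟩ : ∃ v, h v v = 0 ∧ h v e = 0 ∧ h ((g : M4) *ᵥ v) e ≠ 0 := by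
    by_contra hc
    push Not at hc
    refine hgW (mem_stab_of_maps fun x hx => ?_)
    obtain ⟨a, rfl⟩ := hmemW x hx
    have hy := eq_smul_of_iso_perp (hF := hF) (y := ((g⁻¹ : GL (Fin 4) F) : M4) *ᵥ e) hs fun v hvv hve => by
      rw [← hgi, mul_inv_mulVec]
      exact hc v hvv hve
    set κ := h (((g⁻¹ : GL (Fin 4) F) : M4) *ᵥ e) e
    have hy' := congrArg (fun y => (g : M4) *ᵥ y) hy
    simp only [mul_inv_mulVec, Matrix.mulVec_smul] at hy'
    have hκ : κ ≠ 0 := fun e' => by
      rw [e', zero_smul] at hy'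
      rw [hy', h_zero_left (hF := hF)] at hs
      exact zero_ne_one hs
    rw [Matrix.mulVec_smul, show (g : M4) *ᵥ e = κ⁻¹ • e by
      conv_rhs => rw [hy', smul_smul, inv_mul_cancel₀ hκ, one_smul]]
    exact W.smul_mem a (W.smul_mem _ heW)
  set x := (g : M4) *ᵥ v with hx
  have hxC : Ctr hF K x := (hSS v hvv hve).conj hg (hKG hg)
  have hxx : h x x = 0 := by rw [hx, hgi, hvv]
  by_cases hze : h z e = 0
  · exact hSS z hz hze
  obtain ⟨t, ht⟩ := exists_norm_eq hF (c := (-1 : F)) (by rw [map_neg, map_one])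
  have ht0 : t ≠ 0 := fun e' => by rw [e', zero_mul] at ht; exact neg_ne_zero.2 one_ne_zero ht.symm
  have unit : ∀ p : V, h p p = 0 → h p e ≠ 0 →
      ∃ u, h u u = 1 ∧ h e u = 0 ∧ (h p e)⁻¹ • p = e + t • u := by
    intro p hp hpe
    set p' := (h p e)⁻¹ • p with hp'
    have h1 : h p' e = 1 := by rw [hp', h_smul_left, inv_mul_cancel₀ hpe]
    have h1' : h e p' = 1 := by rw [← h_swap hF, h1, map_one]
    have hpp : h p' p' = 0 := by rw [hp', h_smul_left, h_smul_right hF, hp, mul_zero, mul_zero]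
    refine ⟨t⁻¹ • (p' - e), ?_, ?_, by rw [smul_smul, mul_inv_cancel₀ ht0, one_smul, add_sub_cancel]⟩
    · rw [h_smul_left, h_smul_right hF, h_sub_left, h_sub_right hF, h_sub_right hF, hpp, h1, h1', hs,
        map_inv₀]
      have : σ t ≠ 0 := (map_ne_zero _).2 ht0
      field_simp
      linear_combination -ht
    · rw [h_smul_right hF, h_sub_right hF, h1', hs, sub_self, mul_zero]
  obtain ⟨u, hu, heu, hux⟩ := unit x hxx hgv
  obtain ⟨u', hu', heu', hux'⟩ := unit z hz hze
  obtain ⟨c, d, hb⟩ := exists_basis_two (hF := hF) hs hu heu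
  obtain ⟨c', d', hb'⟩ := exists_basis_two (hF := hF) hs hu' heu'
  obtain ⟨k, hkG, hk, -⟩ := exists_trans_unit (hF := hF) hb hb' 2
  have hke : (k : M4) *ᵥ e = e := hk 0 (by decide)
  have hku : (k : M4) *ᵥ u = u' := hk 1 (by decide)
  have hkK : k ∈ K := hHK ⟨mem_stab_of_maps fun y hy => by
    obtain ⟨a, rfl⟩ := hmemW y hy
    rw [Matrix.mulVec_smul, hke]
    exact W.smul_mem a heW, hkG⟩
  have := (hxC.smul (h x e)⁻¹).conj hkK hkG
  rw [hux, Matrix.mulVec_add, Matrix.mulVec_smul, hke, hku, ← hux'] at this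
  exact this.of_smul (inv_ne_zero hze)

end CfsgLib.MaxSub.SUFour
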