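/-
One element of the unipotent radical of a totally isotropic plane gives all its centres.
-/
import Cfsg.Agent.Lib.MaxSub.SUFour.Point
import Cfsg.Agent.Lib.MaxSub.SubfieldMaximalGUTools

set_option autoImplicit false
set_option maxHeartbeats 600000
set_option linter.unusedSectionVars false

namespace CfsgLib.MaxSub.SUFour

open Matrix Module Cfsg Cfsg.Geo CfsgLib.UnitaryTransvection
open CfsgLib.MaxSub.PairSU (IsS IsT Pair Levi exists_S exists_T h_zero gl_ext)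
open CfsgLib.MaxSub.SubfieldGU (IsM)

variable {F : Type*} [Field F] [Fintype F] {q : ℕ} {hF : Fintype.card F = q ^ 2}

local notation "V" => Fin 4 → F
local notation "h" => Cfsg.hermForm 4 F q
local notation "σ" => frob hF
local notation "M4" => Matrix (Fin 4) (Fin 4) F
local notation "G" => Cfsg.GU 4 F q ⊓ specialLinear (Fin 4) F

include hF

variable {K : Subgroup (GL (Fin 4) F)} {D E : Submodule F (Fin 4 → F)}

/-- A unipotent element of the radical with an entry off the centre gives the whole centre. -/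
theorem ctr_of_entry (P : Pair q 2 D E) (hKG : K ≤ G) (hL : Levi q D E K) {κ : F} (hκ : σ κ = -κ)
    (hκ0 : κ ≠ 0) {a p : V} (ha : a ∈ D) (hp : p ∈ D) (hpa : p ∉ Submodule.span F {a}) {α β δ : F}
    {g : GL (Fin 4) F} (hg : g ∈ K) (hM : IsM hF κ a p α β δ g) (hα : σ α = α) (hδ : σ δ = δ)
    (hne : δ ≠ 0 ∨ β ≠ 0) : Ctr hF K a := by
  have haa := P.tsD a ha a ha
  have hap := P.tsD a ha p hp
  have hpa' := P.tsD p hp a ha
  have hpp := P.tsD p hp p hp
  obtain ⟨b, hb, hpb, hab⟩ :=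
    P.exists_in (hF := hF) ((Submodule.span_singleton_le_iff_mem _ _).2 ha) hp hpa
  have hab' := hab a (Submodule.mem_span_singleton_self a)
  have shift : ∀ (x α' β' δ' : F) (g' : GL (Fin 4) F), g' ∈ K → IsM hF κ a p α' β' δ' g' →
      σ α' = α' → σ δ' = δ' →
      ∃ g'' ∈ K, IsM hF κ a p (β' * σ x + σ β' * x + δ' * (x * σ x)) (δ' * x) 0 g'' := by
    intro x α' β' δ' g' hg' hM' hα' hδ'
    have e0 : h ((-x) • a) b = 0 := by rw [h_smul_left, hab', mul_zero]
    obtain ⟨l, hlG, hl⟩ := exists_S (hF := hF) (P.tsD _ (D.smul_mem (-x) ha) _ (D.smul_mem (-x) ha))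
      (P.tsE b hb b hb) e0
    have hlK := hL _ (D.smul_mem (-x) ha) b hb e0 l hlG hl
    have ela : (l : M4) *ᵥ a = a := by
      rw [hl, h_smul_right hF, haa, hab']; module
    have elp : (l : M4) *ᵥ p = x • a + (1 : F) • p := by
      rw [hl, h_smul_right hF, hpa', hpb]; module
    have hc := hM'.conj hlG
    rw [ela, elp, show a = (1 : F) • a + (0 : F) • p by module] at hc
    have hs := IsM.subst 1 0 x 1 hα' hδ' (by convert hc using 1 <;> module)
    refine ⟨_, mul_mem (mul_mem (mul_mem hlK hg') (inv_mem hlK)) (inv_mem hg'), ?_⟩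
    have := IsM.mul haa hpp hap hs (IsM.inv haa hpp hap hM')
    convert this using 1 <;> simp only [map_one, map_zero, map_neg] <;> ring
  obtain ⟨g1, hg1, β1, α1, hα1, hβ1, hM1⟩ : ∃ g1 ∈ K, ∃ β1 α1 : F, σ α1 = α1 ∧ β1 ≠ 0 ∧
      IsM hF κ a p α1 β1 0 g1 := by
    by_cases hd : δ = 0
    · exact ⟨g, hg, β, α, hα, hne.resolve_left (not_not.2 hd), hd ▸ hM⟩
    · obtain ⟨g1, hg1, hM1⟩ := shift 1 α β δ g hg hM hα hδ
      exact ⟨g1, hg1, δ * 1, _, by simp only [map_add, map_mul, frob_frob hF, hδ, map_one]; ring,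
        by rwa [mul_one], hM1⟩
  refine PairSU.ctr_of_inT fun c hc => ?_
  obtain ⟨d, hd⟩ := exists_trace_one hF
  set v := c / κ with hv
  have hvs : σ v = v := by
    rw [hv, map_div₀, hκ, show σ c = -c by linear_combination hc, neg_div_neg_eq]
  obtain ⟨g2, hg2, hM2⟩ := shift (σ (v * d / β1)) α1 β1 0 g1 hg1 hM1 hα1 (map_zero _)
  refine ⟨g2, hg2, fun x => ?_⟩
  have e1 : β1 * σ (σ (v * d / β1)) + σ β1 * σ (v * d / β1) + 0 * (σ (v * d / β1) * σ (σ (v * d / β1))) = v := by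
    rw [frob_frob hF, zero_mul, add_zero, mul_div_cancel₀ _ hβ1, map_div₀, map_mul, hvs,
      mul_div_cancel₀ _ ((map_ne_zero σ).2 hβ1)]
    linear_combination v * hd
  rw [hM2 x, e1]
  simp only [zero_mul, map_zero, mul_zero, add_zero, zero_smul, hv]
  rw [← mul_assoc, mul_div_cancel₀ _ hκ0]

/-- A nontrivial unipotent element gives all centres of the plane. -/
theorem ctr_all_of_M (P : Pair q 2 D E) (hKG : K ≤ G) (hL : Levi q D E K) {κ : F} (hκ : σ κ = -κ)
    (hκ0 : κ ≠ 0) {a p : V} (ha : a ∈ D) (hp : p ∈ D) (ha0 : a ≠ 0) (hpa : p ∉ Submodule.span F {a})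
    {α β δ : F} {g : GL (Fin 4) F} (hg : g ∈ K) (hM : IsM hF κ a p α β δ g) (hα : σ α = α)
    (hδ : σ δ = δ) (hne : α ≠ 0 ∨ β ≠ 0 ∨ δ ≠ 0) : ∀ e ∈ D, Ctr hF K e := by
  have hap : a ∉ Submodule.span F {p} := fun hh => by
    obtain ⟨t, ht⟩ := Submodule.mem_span_singleton.1 hh
    have ht0 : t ≠ 0 := fun e => ha0 (by rw [← ht, e, zero_smul])
    exact hpa (Submodule.mem_span_singleton.2 ⟨t⁻¹, by rw [← ht, smul_smul, inv_mul_cancel₀ ht0, one_smul]⟩)
  obtain ⟨x, hx, hx0, hC⟩ : ∃ x ∈ D, x ≠ 0 ∧ Ctr hF K x := by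
    by_cases h1 : δ ≠ 0 ∨ β ≠ 0
    · exact ⟨a, ha, ha0, ctr_of_entry P hKG hL hκ hκ0 ha hp hpa hg hM hα hδ h1⟩
    push Not at h1
    have hM' : IsM hF κ p a δ (σ β) α g := fun y => by
      rw [hM y, frob_frob hF]; module
    exact ⟨p, hp, fun e => hpa (e ▸ zero_mem _), ctr_of_entry P hKG hL hκ hκ0 hp ha hap hg hM' hδ hα
      (Or.inl (hne.resolve_right (by simp [h1.1, h1.2])))⟩
  intro e he
  by_cases hxe : x ∈ Submodule.span F {e}
  · obtain ⟨t, ht⟩ := Submodule.mem_span_singleton.1 hxe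
    have ht0 : t ≠ 0 := fun e' => hx0 (by rw [← ht, e', zero_smul])
    exact (ht ▸ hC).of_smul ht0
  obtain ⟨T, hTG, hT⟩ := exists_T (hF := hF) (P.tsD x hx x hx) (show κ * 1 + σ (κ * 1) = 0 by
    rw [mul_one, hκ, add_neg_cancel])
  have hTK : T ∈ K := hC T _ (show κ * 1 + σ (κ * 1) = 0 by rw [mul_one, hκ, add_neg_cancel])
    (Matrix.ext_of_mulVec_single fun i => by rw [hT, tmat_mulVec])
  refine ctr_of_entry (α := 0) (β := 0) (δ := 1) P hKG hL hκ hκ0 he hx hxe hTK (fun y => ?_)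
    (map_zero _) (map_one _) (Or.inl one_ne_zero)
  rw [hT y]
  simp only [map_zero, zero_mul, mul_zero, add_zero, zero_add, mul_one, one_mul, zero_smul]

/-- Vectors perpendicular to a totally isotropic plane of a pair lie in it. -/
theorem mem_of_perp (P : Pair q 2 D E) {x : V} (hx : ∀ d ∈ D, h x d = 0) : x ∈ D := by
  obtain ⟨a, ha, b, hb, rfl⟩ := P.split x
  suffices hb0 : b = 0 by rw [hb0, add_zero]; exact ha
  refine h_nondeg hF fun y => ?_
  obtain ⟨a', ha', b', hb', rfl⟩ := P.split y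
  have := hx a' ha'
  rw [h_add_left, P.tsD a ha a' ha', zero_add] at this
  rw [h_add_right hF, this, P.tsE b hb b' hb', add_zero]

/-- A basis of the plane with its dual basis. -/
theorem dual_pair (P : Pair q 2 D E) {d₁ d₂ : V} (h1 : d₁ ∈ D) (h2 : d₂ ∈ D)
    (hi : LinearIndependent F ![d₁, d₂]) :
    ∃ e₁ ∈ E, ∃ e₂ ∈ E, h d₁ e₁ = 1 ∧ h d₁ e₂ = 0 ∧ h d₂ e₁ = 0 ∧ h d₂ e₂ = 1 := by
  have hn1 : d₁ ∉ Submodule.span F {d₂} := fun hh => by
    obtain ⟨t, ht⟩ := Submodule.mem_span_singleton.1 hh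
    exact one_ne_zero (LinearIndependent.pair_iff.1 hi 1 (-t) (by rw [← ht]; module)).1
  have hn2 : d₂ ∉ Submodule.span F {d₁} := fun hh => by
    obtain ⟨t, ht⟩ := Submodule.mem_span_singleton.1 hh
    exact one_ne_zero (LinearIndependent.pair_iff.1 hi (-t) 1 (by rw [← ht]; module)).2
  obtain ⟨e₁, he₁, ha, hb⟩ := P.exists_in (hF := hF) ((Submodule.span_singleton_le_iff_mem _ _).2 h2) h1 hn1
  obtain ⟨e₂, he₂, hc, hd⟩ := P.exists_in (hF := hF) ((Submodule.span_singleton_le_iff_mem _ _).2 h1) h2 hn2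
  exact ⟨e₁, he₁, e₂, he₂, ha, hd _ (Submodule.mem_span_singleton_self _),
    hb _ (Submodule.mem_span_singleton_self _), hc⟩

/-- Gram data of a hyperbolic basis. -/
theorem indep_four (P : Pair q 2 D E) {d₁ d₂ e₁ e₂ : V} (h1 : d₁ ∈ D) (h2 : d₂ ∈ D) (h3 : e₁ ∈ E)
    (h4 : e₂ ∈ E) (a : h d₁ e₁ ≠ 0) (b : h d₁ e₂ = 0) (c : h d₂ e₁ = 0) (d : h d₂ e₂ ≠ 0) :
    LinearIndependent F ![d₁, d₂, e₁, e₂] := by
  rw [Fintype.linearIndependent_iff]
  intro t ht
  rw [Fin.sum_univ_four] at ht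
  simp only [Matrix.cons_val_zero, Matrix.cons_val_one, Matrix.cons_val] at ht
  have e := fun z => congrArg (fun y => h y z) ht
  have k1 := e e₁
  have k2 := e e₂
  have k3 := e d₁
  have k4 := e d₂
  simp only [h_add_left, h_smul_left, h_zero_left (hF := hF), P.tsD _ h1 _ h1, P.tsD _ h1 _ h2,
    P.tsD _ h2 _ h1, P.tsD _ h2 _ h2, P.tsE _ h3 _ h3, P.tsE _ h3 _ h4, P.tsE _ h4 _ h3,
    P.tsE _ h4 _ h4, b, c, h_zero (hF := hF) b, h_zero (hF := hF) c, mul_zero, add_zero, zero_add,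
    mul_eq_zero] at k1 k2 k3 k4
  intro i
  fin_cases i
  · exact k1.resolve_right a
  · exact k2.resolve_right d
  · exact k3.resolve_right (h_ne (hF := hF) a)
  · exact k4.resolve_right (h_ne (hF := hF) d)

end CfsgLib.MaxSub.SUFour
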