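/-
Stabilisers of two orthogonal non-degenerate planes are maximal in `SU_4`, at least three fixed scalars.
-/
import Cfsg.Agent.Lib.MaxSub.SUFour.Point

set_option autoImplicit false
set_option maxHeartbeats 600000
set_option linter.unusedSectionVars false

namespace CfsgLib.MaxSub.SUFour

open Matrix Module Cfsg Cfsg.Geo CfsgLib.UnitaryTransvection
open CfsgLib.MaxSub.PairSU (IsS IsT exists_S exists_T h_zero gl_ext)

variable {F : Type*} [Field F] [Fintype F] {q : ℕ} {hF : Fintype.card F = q ^ 2}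

local notation "V" => Fin 4 → F
local notation "h" => Cfsg.hermForm 4 F q
local notation "σ" => frob hF
local notation "M4" => Matrix (Fin 4) (Fin 4) F
local notation "G" => Cfsg.GU 4 F q ⊓ specialLinear (Fin 4) F

include hF

/-- A fixed scalar other than zero and one. -/
theorem exists_fixed_ne (hq : 3 ≤ q) : ∃ ν : F, σ ν = ν ∧ ν ≠ 0 ∧ ν ≠ 1 := by
  obtain ⟨g, hg⟩ := IsCyclic.exists_ofOrder_eq_natCard (α := Fˣ)
  rw [Nat.card_units, Nat.card_eq_fintype_card, hF] at hg
  refine ⟨(g : F) * σ (g : F), by rw [map_mul, frob_frob hF, mul_comm], mul_ne_zero (Units.ne_zero g)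
    ((map_ne_zero _).2 (Units.ne_zero g)), fun e => ?_⟩
  have h1 : g ^ (q + 1) = 1 := Units.ext (by
    rw [Units.val_pow_eq_pow_val, Units.val_one, ← e, frob_apply, pow_succ'])
  have h2 := Nat.le_of_dvd (by omega) (orderOf_dvd_of_pow_eq_one h1)
  rw [hg] at h2
  have : 3 * q ≤ q ^ 2 := by rw [sq]; exact Nat.mul_le_mul_right q hq
  omega

/-- A norm one scalar whose square is not one. -/
theorem exists_norm_one_sq : ∃ l : F, l * σ l = 1 ∧ l * l ≠ 1 := by
  obtain ⟨ζ, hζ⟩ := UnitaryBasic.exists_zeta hF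
  have hq := (UnitaryBasic.frob_exists hF).1
  refine ⟨ζ, ?_, fun e => ?_⟩
  · rw [frob_apply, ← pow_succ', ← Units.val_pow_eq_pow_val, ← hζ, pow_orderOf_eq_one, Units.val_one]
  · have h1 : ζ ^ 2 = 1 := Units.ext (by rw [Units.val_pow_eq_pow_val, sq, e, Units.val_one])
    have := Nat.le_of_dvd (by norm_num) (orderOf_dvd_of_pow_eq_one h1)
    omega

/-- A non-degenerate plane has an orthonormal basis. -/
theorem plane_basis {W : Submodule F V} (hW : IsNondegenerateOn h W) (h2 : finrank F W = 2) :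
    ∃ e u, e ∈ W ∧ u ∈ W ∧ h e e = 1 ∧ h u u = 1 ∧ h e u = 0 := by
  obtain ⟨η, hη⟩ : ∃ η : F, σ η ≠ η := by
    by_contra e
    push Not at e
    exact frob_ne_id hF (RingHom.ext e)
  obtain ⟨a, ha, haa⟩ : ∃ a ∈ W, h a a ≠ 0 := by
    by_contra hc
    push Not at hc
    obtain ⟨w, hw, hw0⟩ := Submodule.exists_mem_ne_zero_of_ne_bot (p := W) (fun e => by
      rw [e, finrank_bot] at h2; omega)
    obtain ⟨-, y, hy, hne⟩ := hW w hw hw0
    have key : ∀ z ∈ W, h w z + h z w = 0 := fun z hz => by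
      have := hc (w + z) (W.add_mem hw hz)
      rw [h_add_left, h_add_right hF, h_add_right hF, hc w hw, hc z hz] at this
      linear_combination this
    have e1 := key y hy
    have e2 := key (η • y) (W.smul_mem η hy)
    rw [h_smul_left, h_smul_right hF] at e2
    exact hne ((mul_eq_zero.1 (show (σ η - η) * h w y = 0 by
      linear_combination e2 - η * e1)).resolve_left (sub_ne_zero.2 hη))
  obtain ⟨s, hs, -⟩ := exists_scale (hF := hF) haa (map_one σ)
  obtain ⟨y, hy, hye⟩ : ∃ y ∈ W, y ∉ Submodule.span F {s • a} := by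
    by_contra hc
    push Not at hc
    have h3 := (Submodule.finrank_mono hc).trans (finrank_span_le_card ({s • a} : Set V))
    rw [Set.toFinset_singleton, Finset.card_singleton] at h3
    omega
  obtain ⟨e, he⟩ : ∃ e, e = s • a := ⟨_, rfl⟩
  rw [← he] at hs hye
  have heW : e ∈ W := he ▸ W.smul_mem s ha
  set w := y - h y e • e with hw
  have hwW : w ∈ W := W.sub_mem hy (W.smul_mem _ heW)
  have hwe : h w e = 0 := by rw [hw, h_sub_left, h_smul_left, hs, mul_one, sub_self]
  have hw0 : w ≠ 0 := fun e' => hye (by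
    rw [hw, sub_eq_zero] at e'
    rw [e']
    exact Submodule.smul_mem _ _ (Submodule.mem_span_singleton_self e))
  have hspan : W = Submodule.span F {e, w} := by
    refine (Submodule.eq_of_le_of_finrank_le (Submodule.span_le.2 ?_) ?_).symm
    · rintro x (rfl | rfl) <;> assumption
    · have hli : LinearIndependent F ![e, w] := LinearIndependent.pair_iff.2 fun a b hab => by
        have e1 := congrArg (fun x => h x e) hab
        simp only [h_add_left, h_smul_left, hs, hwe, h_zero_left (hF := hF), mul_one, mul_zero, add_zero] at e1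
        rw [e1, zero_smul, zero_add] at hab
        exact ⟨e1, (smul_eq_zero.1 hab).resolve_right hw0⟩
      have := finrank_span_eq_card hli
      rw [Matrix.range_cons, Matrix.range_cons, Matrix.range_empty, Set.union_empty,
        Set.singleton_union, Fintype.card_fin] at this
      omega
  have hww : h w w ≠ 0 := fun e0 => by
    obtain ⟨-, z, hz, hne⟩ := hW w hwW hw0
    rw [hspan, Submodule.mem_span_pair] at hz
    obtain ⟨c, d, rfl⟩ := hz
    exact hne (by rw [h_add_right hF, h_smul_right hF, h_smul_right hF, hwe, e0, mul_zero, mul_zero, add_zero])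
  obtain ⟨r, hr, -⟩ := exists_scale (hF := hF) hww (map_one σ)
  exact ⟨e, r • w, heW, W.smul_mem r hwW, hs, hr,
    by rw [h_smul_right hF, h_zero (hF := hF) hwe, mul_zero]⟩

/-- The data of two orthogonal planes. -/
structure Planes (hF : Fintype.card F = q ^ 2) (W P : Submodule F (Fin 4 → F))
    (b : Fin 4 → Fin 4 → F) : Prop where
  orth : ∀ i j, Cfsg.hermForm 4 F q (b i) (b j) = if i = j then 1 else 0
  memW : ∀ x, x ∈ W ↔ Cfsg.hermForm 4 F q x (b 2) = 0 ∧ Cfsg.hermForm 4 F q x (b 3) = 0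
  memP : ∀ x, x ∈ P ↔ Cfsg.hermForm 4 F q x (b 0) = 0 ∧ Cfsg.hermForm 4 F q x (b 1) = 0

omit hF in
/-- The combination with given coordinates. -/
def comb (b : Fin 4 → Fin 4 → F) (c : Fin 4 → F) : Fin 4 → F := ∑ i, c i • b i

variable {W P : Submodule F (Fin 4 → F)} {b : Fin 4 → Fin 4 → F}

theorem h_comb (B : Planes hF W P b) (c : V) (i : Fin 4) : h (comb b c) (b i) = c i := by
  rw [comb, h_sum_left (hF := hF)]
  simp [h_smul_left, B.orth]

theorem h_comb_comb (B : Planes hF W P b) (c d : V) :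
    h (comb b c) (comb b d) = c 0 * σ (d 0) + c 1 * σ (d 1) + c 2 * σ (d 2) + c 3 * σ (d 3) := by
  conv_lhs => arg 5; rw [comb]
  rw [h_sum_right (hF := hF), Fin.sum_univ_four]
  simp only [h_smul_right hF, h_comb B]
  ring

theorem comb_eq (B : Planes hF W P b) (x : V) : x = comb b (fun i => h x (b i)) :=
  eq_of_values (hF := hF) B.orth fun i => by rw [h_comb B]

/-- Stabiliser elements from images of the basis. -/
theorem mem_of_images (B : Planes hF W P b) {D : Fin 2 → Submodule F V} (hD : IsMDecomposition 2 D)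
    (hW : D 0 = W) (hP : D 1 = P) {g : GL (Fin 4) F} (h0 : (g : M4) *ᵥ b 0 ∈ W)
    (h1 : (g : M4) *ᵥ b 1 ∈ W) (h2 : (g : M4) *ᵥ b 2 ∈ P) (h3 : (g : M4) *ᵥ b 3 ∈ P) :
    g ∈ decompositionStabilizer D := by
  refine mem_decomp_stab hD 1 fun i x hx => ?_
  rw [comb_eq B x, comb, Matrix.mulVec_sum, Fin.sum_univ_four]
  simp only [Matrix.mulVec_smul]
  fin_cases i
  · have hx' : x ∈ W := hW ▸ hx
    obtain ⟨e2, e3⟩ := (B.memW x).1 hx'
    rw [e2, e3, zero_smul, zero_smul, add_zero, add_zero]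
    show _ ∈ D 0
    exact hW ▸ W.add_mem (W.smul_mem _ h0) (W.smul_mem _ h1)
  · have hx' : x ∈ P := hP ▸ hx
    obtain ⟨e0, e1⟩ := (B.memP x).1 hx'
    rw [e0, e1, zero_smul, zero_smul, zero_add, zero_add]
    show _ ∈ D 1
    exact hP ▸ P.add_mem (P.smul_mem _ h2) (P.smul_mem _ h3)

variable {K : Subgroup (GL (Fin 4) F)} {D : Fin 2 → Submodule F (Fin 4 → F)}

/-- Changing the basis inside the two planes. -/
theorem rotate (B : Planes hF W P b) (hD : IsMDecomposition 2 D) (hW : D 0 = W) (hP : D 1 = P)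
    (hK : decompositionStabilizer D ⊓ G ≤ K) {a b' c d : F} (hab : a * σ a + b' * σ b' = 1)
    (hcd : c * σ c + d * σ d = 1) :
    ∃ k ∈ K, k ∈ G ∧ (k : M4) *ᵥ b 0 = comb b ![a, b', 0, 0] ∧
      (k : M4) *ᵥ b 2 = comb b ![0, 0, c, d] := by
  let B' : Fin 4 → V := ![comb b ![a, b', 0, 0], comb b ![-σ b', σ a, 0, 0], comb b ![0, 0, c, d],
    comb b ![0, 0, -σ d, σ c]]
  have hB' : ∀ i j, h (B' i) (B' j) = if i = j then 1 else 0 := fun i j => by
    fin_cases i <;> fin_cases j <;>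
      simp only [B', Matrix.cons_val_zero, Matrix.cons_val_one, Matrix.cons_val, Fin.zero_eta, Fin.mk_one,
        Fin.reduceFinMk, h_comb_comb B, map_zero, map_neg, frob_frob hF] <;>
      simp <;> first | ring1 | linear_combination hab | linear_combination hcd
  obtain ⟨k, hkG, hk, e, -, hke⟩ := exists_trans_unit (hF := hF) B.orth hB' 1
  have k0 : (k : M4) *ᵥ b 0 = comb b ![a, b', 0, 0] := hk 0 (by decide)
  have k2 : (k : M4) *ᵥ b 2 = comb b ![0, 0, c, d] := hk 2 (by decide)
  have k3 : (k : M4) *ᵥ b 3 = comb b ![0, 0, -σ d, σ c] := hk 3 (by decide)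
  have k1 : (k : M4) *ᵥ b 1 = e • comb b ![-σ b', σ a, 0, 0] := hke
  refine ⟨k, hK ⟨mem_of_images B hD hW hP ?_ ?_ ?_ ?_, hkG⟩, hkG, k0, k2⟩
  · rw [k0, B.memW]; simp [h_comb B]
  · rw [k1]; refine W.smul_mem e ?_; rw [B.memW]; simp [h_comb B]
  · rw [k2, B.memP]; simp [h_comb B]
  · rw [k3, B.memP]; simp [h_comb B]

/-- The diagonal elements. -/
theorem dilate (B : Planes hF W P b) (hD : IsMDecomposition 2 D) (hW : D 0 = W) (hP : D 1 = P)
    (hK : decompositionStabilizer D ⊓ G ≤ K) {l : F} (hl : l * σ l = 1) :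
    ∃ k ∈ K, k ∈ G ∧ ∀ c : V, (k : M4) *ᵥ comb b c = comb b ![l * c 0, c 1, l⁻¹ * c 2, c 3] := by
  have hl0 : l ≠ 0 := left_ne_zero_of_mul_eq_one hl
  have hs : σ l = l⁻¹ := eq_inv_of_mul_eq_one_right hl
  let B' : Fin 4 → V := ![l • b 0, b 1, l⁻¹ • b 2, b 3]
  have hB' : ∀ i j, h (B' i) (B' j) = if i = j then 1 else 0 := fun i j => by
    fin_cases i <;> fin_cases j <;>
      simp [B', h_smul_left, h_smul_right hF, B.orth, hs, hl0]
  obtain ⟨A, hA, -, hAb⟩ := exists_map (hF := hF)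
    (indep_of_orth (hF := hF) (fun i k hik => by rw [B.orth, if_neg hik])
      fun i => by rw [B.orth, if_pos rfl]; exact one_ne_zero)
    (fun i k => by rw [hB', B.orth])
  have hcomb : ∀ c : V, A *ᵥ comb b c = comb b ![l * c 0, c 1, l⁻¹ * c 2, c 3] := fun c => by
    rw [comb, comb, Fin.sum_univ_four, Fin.sum_univ_four]
    simp only [Matrix.mulVec_add, Matrix.mulVec_smul, hAb, B', Matrix.cons_val_zero, Matrix.cons_val_one,
      Matrix.cons_val]
    module
  have hdet : A.det = 1 := by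
    have hcol : A * colM b = colM b * Matrix.diagonal ![l, 1, l⁻¹, 1] := by
      ext r i
      rw [Matrix.mul_diagonal]
      show (A *ᵥ b i) r = b i r * ![l, 1, l⁻¹, 1] i
      rw [hAb]
      fin_cases i <;> simp [B', mul_comm]
    have h1 := congrArg Matrix.det hcol
    rw [Matrix.det_mul, Matrix.det_mul, Matrix.det_diagonal, Fin.prod_univ_four] at h1
    have hb0 : (colM b).det ≠ 0 := by
      refine ((Matrix.isUnit_iff_isUnit_det _).1 (Matrix.linearIndependent_cols_iff_isUnit.1 ?_)).ne_zero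
      show LinearIndependent F b
      exact indep_of_orth (hF := hF) (fun i k hik => by rw [B.orth, if_neg hik])
        fun i => by rw [B.orth, if_pos rfl]; exact one_ne_zero
    refine mul_right_cancel₀ hb0 ?_
    rw [h1]
    simp [hl0]
  refine ⟨sg A hdet, hK ⟨mem_of_images B hD hW hP ?_ ?_ ?_ ?_, sg_mem hA hdet⟩, sg_mem hA hdet, hcomb⟩ <;>
    rw [show (sg A hdet : M4) = A from rfl, hAb]
  · exact W.smul_mem l ((B.memW _).2 (by simp [B.orth]))
  · exact (B.memW _).2 (by simp [B', B.orth])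
  · exact P.smul_mem _ ((B.memP _).2 (by simp [B.orth]))
  · exact (B.memP _).2 (by simp [B', B.orth])

/-- Centres with anisotropic parts are all alike. -/
theorem ctr_aniso (B : Planes hF W P b) (hD : IsMDecomposition 2 D) (hW : D 0 = W) (hP : D 1 = P)
    (hK : decompositionStabilizer D ⊓ G ≤ K) {x z : V} (hx : h x x = 0) (hz : h z z = 0)
    (hxA : h x (b 0) * σ (h x (b 0)) + h x (b 1) * σ (h x (b 1)) ≠ 0)
    (hzA : h z (b 0) * σ (h z (b 0)) + h z (b 1) * σ (h z (b 1)) ≠ 0) (hC : Ctr hF K x) :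
    Ctr hF K z := by
  obtain ⟨t, ht⟩ := exists_norm_eq hF (c := (-1 : F)) (by rw [map_neg, map_one])
  have ht0 : t ≠ 0 := fun e => by rw [e, zero_mul] at ht; exact neg_ne_zero.2 one_ne_zero ht.symm
  have hst : σ t ≠ 0 := (map_ne_zero _).2 ht0
  have norm : ∀ p : V, h p p = 0 → h p (b 0) * σ (h p (b 0)) + h p (b 1) * σ (h p (b 1)) ≠ 0 →
      ∃ s : F, s ≠ 0 ∧ ∃ k ∈ K, k ∈ G ∧ (k : M4) *ᵥ comb b ![1, 0, t, 0] = s • p := by
    intro p hp hA
    obtain ⟨r, hr⟩ := exists_norm_eq hF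
      (c := (h p (b 0) * σ (h p (b 0)) + h p (b 1) * σ (h p (b 1)))⁻¹)
      (by simp only [map_inv₀, map_add, map_mul, frob_frob hF]; ring)
    have hr0 : r ≠ 0 := fun e => inv_ne_zero hA (by rw [← hr, e, zero_mul])
    set p' := r • p with hp'
    have hA' : h p' (b 0) * σ (h p' (b 0)) + h p' (b 1) * σ (h p' (b 1)) = 1 := by
      rw [hp', h_smul_left, h_smul_left, map_mul, map_mul]
      have := mul_inv_cancel₀ hA
      rw [← hr] at this
      linear_combination this
    have hpp : h p' p' = 0 := by rw [hp', h_smul_left, h_smul_right hF, hp, mul_zero, mul_zero]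
    have hB : h p' (b 2) * σ (h p' (b 2)) + h p' (b 3) * σ (h p' (b 3)) = -1 := by
      have e := h_comb_comb B (fun i => h p' (b i)) (fun i => h p' (b i))
      rw [← comb_eq B p', hpp] at e
      linear_combination hA' * (-1) - e
    obtain ⟨k, hk, hkG, k0, k2⟩ := rotate B hD hW hP hK (a := h p' (b 0)) (b' := h p' (b 1))
      (c := h p' (b 2) / t) (d := h p' (b 3) / t) hA' (by
        rw [map_div₀, map_div₀]
        field_simp
        linear_combination hB - ht)
    refine ⟨r, hr0, k, hk, hkG, ?_⟩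
    have e : comb b ![1, 0, t, 0] = b 0 + t • b 2 := by simp [comb, Fin.sum_univ_four]
    rw [e, Matrix.mulVec_add, Matrix.mulVec_smul, k0, k2, ← hp']
    conv_rhs => rw [comb_eq B p']
    simp [comb, Fin.sum_univ_four, smul_add, smul_smul, mul_div_cancel₀ _ ht0]
    module
  obtain ⟨r, hr, k, hk, hkG, ek⟩ := norm x hx hxA
  obtain ⟨r', hr', k', hk', hk'G, ek'⟩ := norm z hz hzA
  have h1 := (hC.smul r).conj (inv_mem hk) (inv_mem hkG)
  rw [← ek, inv_mulVec] at h1
  have h2 := h1.conj hk' hk'G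
  rw [ek'] at h2
  exact h2.of_smul hr'

/-- Stabilisers of two orthogonal non-degenerate planes are maximal in `SU_4`. -/
theorem su4_planes_maximal (hq : 3 ≤ q) {D : Fin 2 → Submodule F V}
    (hD : IsNondegenerateMDecomposition h 2 D) :
    IsMaximalIn G (decompositionStabilizer D ⊓ G) := by
  obtain ⟨e0, e1, h0W, h1W, n0, n1, o01⟩ :=
    plane_basis (hF := hF) (hD.nondegenerate 0) (hD.decomp.finrank_eq 0)
  obtain ⟨f0, f1, g0W, g1W, m0, m1, p01⟩ :=
    plane_basis (hF := hF) (hD.nondegenerate 1) (hD.decomp.finrank_eq 1)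
  have horth : ∀ x ∈ D 0, ∀ y ∈ D 1, h x y = 0 ∧ h y x = 0 := fun x hx y hy =>
    ⟨hD.orthogonal 0 1 (by decide) x hx y hy, hD.orthogonal 1 0 (by decide) y hy x hx⟩
  obtain ⟨b, hbdef⟩ : ∃ b, b = ![e0, e1, f0, f1] := ⟨_, rfl⟩
  have hb : ∀ i j, h (b i) (b j) = if i = j then 1 else 0 := fun i j => by
    subst hbdef
    fin_cases i <;> fin_cases j <;>
      simp [n0, n1, m0, m1, o01, p01, h_zero (hF := hF) o01, h_zero (hF := hF) p01,
        horth e0 h0W f0 g0W, horth e0 h0W f1 g1W, horth e1 h1W f0 g0W, horth e1 h1W f1 g1W]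
  have hbW : b 0 ∈ D 0 ∧ b 1 ∈ D 0 ∧ b 2 ∈ D 1 ∧ b 3 ∈ D 1 := by
    subst hbdef; exact ⟨h0W, h1W, g0W, g1W⟩
  obtain ⟨hb0, hb1, hb2, hb3⟩ := hbW
  have B : Planes hF (D 0) (D 1) b := by
    refine ⟨hb, fun x => ⟨fun hx => ⟨(horth x hx _ hb2).1, (horth x hx _ hb3).1⟩, fun hx => ?_⟩,
      fun x => ⟨fun hx => ⟨(horth _ hb0 x hx).2, (horth _ hb1 x hx).2⟩, fun hx => ?_⟩⟩
    · rw [eq_of_values (hF := hF) hb (x := x) (y := h x (b 0) • b 0 + h x (b 1) • b 1) fun i => by
        fin_cases i <;> simp [h_add_left, h_smul_left, hb, hx.1, hx.2]]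
      exact (D 0).add_mem ((D 0).smul_mem _ hb0) ((D 0).smul_mem _ hb1)
    · rw [eq_of_values (hF := hF) hb (x := x) (y := h x (b 2) • b 2 + h x (b 3) • b 3) fun i => by
        fin_cases i <;> simp [h_add_left, h_smul_left, hb, hx.1, hx.2]]
      exact (D 1).add_mem ((D 1).smul_mem _ hb2) ((D 1).smul_mem _ hb3)
  refine ⟨lt_of_le_of_ne inf_le_right fun e =>
    CfsgLib.Aschbacher.not_SU_le_decomposition hF (by omega) (by omega) hD.decomp
      (show G ≤ _ from e.ge.trans inf_le_left), fun K hK hKG => ?_⟩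
  by_cases hle : K ≤ decompositionStabilizer D
  · exact Or.inl (le_antisymm (le_inf hle hKG) hK)
  obtain ⟨g, hg, hgD⟩ := Set.not_subset.1 hle
  refine Or.inr (le_antisymm hKG (SU_le_of_ctr (hF := hF) (le_refl 4) fun z hz => ?_))
  have hgi := G_isometry (hKG hg)
  have hSS : ∀ i, ∀ v ∈ D i, h v v = 0 → Ctr hF K v := fun i v hv hvv u c hc hu =>
    hK ⟨mem_decomp_stab hD.decomp 1 fun l x hx => by
      rw [hu, tmat_mulVec]
      by_cases hli : l = i
      · subst hli; exact (D l).add_mem hx ((D l).smul_mem _ hv)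
      · rw [hD.orthogonal l i hli x hx v hv, mul_zero, zero_smul, add_zero]; exact hx,
    fun a b => by
      show h ((u : M4) *ᵥ a) ((u : M4) *ᵥ b) = h a b
      rw [hu]
      exact tmat_isometry hF (show Good hF v c by rw [Good, hvv, mul_zero, add_zero, hc]) a b,
    Units.ext (by
      show (u : M4).det = 1
      rw [hu, det_tmat, hvv, mul_zero, add_zero])⟩
  obtain ⟨t, ht⟩ := exists_norm_eq hF (c := (-1 : F)) (by rw [map_neg, map_one])
  have ht0 : t ≠ 0 := fun e => by rw [e, zero_mul] at ht; exact neg_ne_zero.2 one_ne_zero ht.symm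
  obtain ⟨w, hw1, hw⟩ := exists_omega hF
  have hwt : w * t * σ (w * t) = -1 := by rw [map_mul]; linear_combination (t * σ t) * hw + ht
  -- a centre outside the two planes
  obtain ⟨x, hxx, hxC, hx0, hx1⟩ : ∃ x, h x x = 0 ∧ Ctr hF K x ∧ x ∉ D 0 ∧ x ∉ D 1 := by
    by_contra hc
    push Not at hc
    have side : ∀ i, ∀ a c : V, a ∈ D i → c ∈ D i → h a a = 1 → h c c = 1 → h a c = 0 →
        ∃ j, (g : M4) *ᵥ a ∈ D j ∧ (g : M4) *ᵥ c ∈ D j := by
      intro i a c ha hc' haa hcc hac
      have hca := h_zero (hF := hF) hac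
      have iso : ∀ r : F, r * σ r = -1 → h (a + r • c) (a + r • c) = 0 := fun r hr => by
        rw [h_add_left, h_add_right hF, h_add_right hF, h_smul_left, h_smul_left, h_smul_right hF,
          h_smul_right hF, haa, hcc, hac, hca]
        linear_combination hr
      have himg : ∀ r : F, r * σ r = -1 → ∃ j, (g : M4) *ᵥ (a + r • c) ∈ D j := fun r hr => by
        by_cases h0 : (g : M4) *ᵥ (a + r • c) ∈ D 0
        · exact ⟨0, h0⟩
        · exact ⟨1, hc _ (by rw [hgi]; exact iso r hr)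
            ((hSS i _ ((D i).add_mem ha ((D i).smul_mem r hc')) (iso r hr)).conj hg (hKG hg)) h0⟩
      obtain ⟨j, hj⟩ := himg t ht
      obtain ⟨j', hj'⟩ := himg (w * t) hwt
      obtain rfl : j = j' := by
        by_contra hne
        have := hD.orthogonal j' j (Ne.symm hne) _ hj' _ hj
        rw [hgi] at this
        simp only [h_add_left, h_add_right hF, h_smul_left, h_smul_right hF, haa, hcc, hac, hca] at this
        exact sub_ne_zero.2 hw1 (by linear_combination -(1 : F) * this + w * ht)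
      have hsub := (D j).sub_mem hj' hj
      rw [← Matrix.mulVec_sub, add_sub_add_left_eq_sub, ← sub_smul, Matrix.mulVec_smul,
        Submodule.smul_mem_iff _ (by rw [← sub_one_mul]; exact mul_ne_zero (sub_ne_zero.2 hw1) ht0)] at hsub
      refine ⟨j, ?_, hsub⟩
      rwa [Matrix.mulVec_add, Matrix.mulVec_smul, Submodule.add_mem_iff_left _ ((D j).smul_mem t hsub)] at hj
    obtain ⟨j, hj0, hj1⟩ := side 0 (b 0) (b 1) hb0 hb1 (by simp [hb]) (by simp [hb]) (by simp [hb])
    obtain ⟨j', hj2, hj3⟩ := side 1 (b 2) (b 3) hb2 hb3 (by simp [hb]) (by simp [hb]) (by simp [hb])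
    have hjj : j ≠ j' := fun e => by
      subst e
      have hall : ∀ x, (g : M4) *ᵥ x ∈ D j := fun x => by
        rw [comb_eq B x, comb, Matrix.mulVec_sum, Fin.sum_univ_four]
        simp only [Matrix.mulVec_smul]
        exact (D j).add_mem ((D j).add_mem ((D j).add_mem ((D j).smul_mem _ hj0) ((D j).smul_mem _ hj1))
          ((D j).smul_mem _ hj2)) ((D j).smul_mem _ hj3)
      have htop : D j = ⊤ := eq_top_iff.2 fun x _ => by
        rw [← mul_inv_mulVec g x]; exact hall _
      have := hD.decomp.finrank_eq j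
      rw [htop, finrank_top, Module.finrank_fin_fun] at this
      omega
    refine hgD (mem_decomp_stab hD.decomp (Equiv.swap 0 j) fun i x hx => ?_)
    rw [comb_eq B x, comb, Matrix.mulVec_sum, Fin.sum_univ_four]
    simp only [Matrix.mulVec_smul]
    have e01 : ∀ i : Fin 2, i = 0 ∨ i = 1 := by decide
    rcases e01 i with rfl | rfl
    · obtain ⟨e2, e3⟩ := (B.memW x).1 hx
      rw [e2, e3, zero_smul, zero_smul, add_zero, add_zero, Equiv.swap_apply_left]
      exact (D j).add_mem ((D j).smul_mem _ hj0) ((D j).smul_mem _ hj1)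
    · obtain ⟨e0', e1'⟩ := (B.memP x).1 hx
      rw [e0', e1', zero_smul, zero_smul, zero_add, zero_add,
        show Equiv.swap (0 : Fin 2) j 1 = j' from
          (by decide : ∀ a b : Fin 2, a ≠ b → Equiv.swap 0 a 1 = b) j j' hjj]
      exact (D j').add_mem ((D j').smul_mem _ hj2) ((D j').smul_mem _ hj3)
  set a0 := h x (b 0) with ha0
  set a1 := h x (b 1) with ha1
  set a2 := h x (b 2) with ha2
  set a3 := h x (b 3) with ha3
  have hxsum : a0 * σ a0 + a1 * σ a1 + a2 * σ a2 + a3 * σ a3 = 0 := by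
    have e := h_comb_comb B (fun i => h x (b i)) (fun i => h x (b i))
    rwa [← comb_eq B x, hxx, eq_comm] at e
  -- a centre with anisotropic parts
  obtain ⟨p, hpp, hpA, hpC⟩ : ∃ p, h p p = 0 ∧
      h p (b 0) * σ (h p (b 0)) + h p (b 1) * σ (h p (b 1)) ≠ 0 ∧ Ctr hF K p := by
    by_cases hA : a0 * σ a0 + a1 * σ a1 = 0
    swap
    · exact ⟨x, hxx, hA, hxC⟩
    obtain ⟨l, hl, hl2⟩ := exists_norm_one_sq (hF := hF)
    have hl0 : l ≠ 0 := left_ne_zero_of_mul_eq_one hl
    have hls : σ l = l⁻¹ := eq_inv_of_mul_eq_one_right hl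
    obtain ⟨k, hk, hkG, hkx⟩ := dilate B hD.decomp rfl rfl hK hl
    have hA0 : a0 ≠ 0 := fun e => by
      rw [e, zero_mul, zero_add, mul_eq_zero, map_eq_zero, or_self] at hA
      exact hx1 ((B.memP x).2 ⟨e, hA⟩)
    have hB0 : a2 ≠ 0 := fun e => by
      have h3 : a3 * σ a3 = 0 := by rw [e] at hxsum; linear_combination hxsum - hA
      rw [mul_eq_zero, map_eq_zero, or_self] at h3
      exact hx0 ((B.memW x).2 ⟨e, h3⟩)
    have hx' : Ctr hF K (comb b ![l * a0, a1, l⁻¹ * a2, a3]) := by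
      have := hxC.conj hk hkG
      rwa [comb_eq B x, hkx] at this
    obtain ⟨c, hc0, hc⟩ := exists_skew hF
    obtain ⟨T, hTG, hT⟩ := exists_T (hF := hF) hxx hc
    have hTK : T ∈ K := hxC T c hc (Matrix.ext_of_mulVec_single fun i => by rw [hT, tmat_mulVec])
    refine ⟨_, ?_, ?_, hx'.conj hTK hTG⟩
    · rw [G_isometry hTG, h_comb_comb B]
      simp only [Matrix.cons_val_zero, Matrix.cons_val_one, Matrix.cons_val, map_mul, map_inv₀, hls,
        inv_inv]
      field_simp
      linear_combination hxsum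
    · rw [hT, h_add_left, h_add_left, h_smul_left, h_smul_left, h_comb B, h_comb B]
      have hμ : h (comb b ![l * a0, a1, l⁻¹ * a2, a3]) x =
          (l - 1) * (a0 * σ a0) + (l⁻¹ - 1) * (a2 * σ a2) := by
        conv_lhs => arg 5; rw [comb_eq B x]
        rw [h_comb_comb B]
        simp only [Matrix.cons_val_zero, Matrix.cons_val_one, Matrix.cons_val]
        linear_combination hxsum
      rw [hμ]
      simp only [Matrix.cons_val_zero, Matrix.cons_val_one, map_add, map_sub, map_mul, map_one, map_inv₀,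
        hls, inv_inv, frob_frob hF]
      intro e
      have hcs : σ c = -c := by linear_combination hc
      rw [← ha0, ← ha1, hcs] at e
      refine mul_ne_zero (mul_ne_zero hc0 (mul_ne_zero (mul_ne_zero hA0 ((map_ne_zero σ).2 hA0))
        (mul_ne_zero hB0 ((map_ne_zero σ).2 hB0)))) (mul_ne_zero (mul_ne_zero (sub_ne_zero.2
          (show l ≠ 1 from fun e1 => hl2 (by rw [e1, one_mul]))) (sub_ne_zero.2 (show l ≠ 1 from
          fun e1 => hl2 (by rw [e1, one_mul])))) (sub_ne_zero.2 hl2)) ?_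
      linear_combination (norm := (field_simp; ring)) (-(l ^ 2)) * e + l ^ 2 *
        (1 + c * ((l - 1) * (a0 * σ a0) + (l⁻¹ - 1) * (a2 * σ a2))
          - c * ((l⁻¹ - 1) * (a0 * σ a0) + (l - 1) * (a2 * σ a2))
          - c ^ 2 * ((l - 1) * (a0 * σ a0) + (l⁻¹ - 1) * (a2 * σ a2))
            * ((l⁻¹ - 1) * (a0 * σ a0) + (l - 1) * (a2 * σ a2))) * hA
  by_cases hzW : z ∈ D 0
  · exact hSS 0 z hzW hz
  by_cases hzP : z ∈ D 1
  · exact hSS 1 z hzP hz
  set c0 := h z (b 0) with hc0
  set c1 := h z (b 1) with hc1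
  by_cases hA : c0 * σ c0 + c1 * σ c1 = 0
  swap
  · exact ctr_aniso B hD.decomp rfl rfl hK hpp hz hpA hA hpC
  have hcz : c0 ≠ 0 := fun e => by
    rw [e, zero_mul, zero_add, mul_eq_zero, map_eq_zero, or_self] at hA
    exact hzP ((B.memP z).2 ⟨e, hA⟩)
  obtain ⟨r, hr, hr0⟩ : ∃ r : F, r * σ r = -1 ∧ c0 + σ r * h z (b 2) ≠ 0 := by
    by_cases h1 : c0 + σ t * h z (b 2) = 0
    · refine ⟨w * t, hwt, fun h2 => ?_⟩
      rw [map_mul] at h2
      have h3 : (σ w - 1) * (σ t * h z (b 2)) = 0 := by linear_combination h2 - h1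
      have h4 : σ w ≠ 1 := fun e => hw1 (by simpa [frob_frob hF] using congrArg σ e)
      rw [(mul_eq_zero.1 h3).resolve_left (sub_ne_zero.2 h4), add_zero] at h1
      exact hcz h1
    · exact ⟨t, ht, h1⟩
  set v := comb b ![1, 0, r, 0] with hv
  have hvv : h v v = 0 := by rw [hv, h_comb_comb B]; simp [hr]
  have hvC : Ctr hF K v := ctr_aniso B hD.decomp rfl rfl hK hpp hvv hpA
    (by rw [hv, h_comb B, h_comb B]; simp) hpC
  have hμv : h z v = c0 + σ r * h z (b 2) := by
    conv_lhs => arg 4; rw [comb_eq B z]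
    rw [hv, h_comb_comb B]
    simp
    ring
  set μ := c0 + σ r * h z (b 2) with hμ
  obtain ⟨c, hc0', hc⟩ := exists_skew hF
  obtain ⟨ν, hν, hν0, hν1⟩ := exists_fixed_ne (hF := hF) hq
  obtain ⟨k, hks, hk0⟩ : ∃ k : F, k + σ k = 0 ∧ k ≠ 0 ∧
      (c0 + k * μ) * σ (c0 + k * μ) + c1 * σ c1 ≠ 0 := by
    have expand : ∀ k : F, k + σ k = 0 → (c0 + k * μ) * σ (c0 + k * μ) + c1 * σ c1 =
        k * ((μ * σ c0 - c0 * σ μ) - k * (μ * σ μ)) := fun k hk => by
      rw [map_add, map_mul, show σ k = -k by linear_combination hk]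
      linear_combination hA
    by_cases h1 : (c0 + c * μ) * σ (c0 + c * μ) + c1 * σ c1 = 0
    · refine ⟨ν * c, by rw [map_mul, hν]; linear_combination ν * hc, mul_ne_zero hν0 hc0', fun h2 => ?_⟩
      rw [expand c hc, mul_eq_zero, or_iff_right hc0'] at h1
      rw [expand _ (by rw [map_mul, hν]; linear_combination ν * hc), mul_eq_zero,
        or_iff_right (mul_ne_zero hν0 hc0')] at h2
      exact mul_ne_zero (sub_ne_zero.2 hν1) (mul_ne_zero hc0' (mul_ne_zero hr0
        ((map_ne_zero _).2 hr0))) (by linear_combination h1 - h2)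
    · exact ⟨c, hc, hc0', h1⟩
  obtain ⟨T, hTG, hT⟩ := exists_T (hF := hF) hvv hks
  have hTK : T ∈ K := hvC T k hks (Matrix.ext_of_mulVec_single fun i => by rw [hT, tmat_mulVec])
  have := (ctr_aniso B hD.decomp rfl rfl hK hpp (z := (T : M4) *ᵥ z) (by rw [G_isometry hTG, hz]) hpA
    (by
      rw [hT, h_add_left, h_add_left, h_smul_left, h_smul_left, hμv, hv, h_comb B, h_comb B]
      simp only [Matrix.cons_val_zero, Matrix.cons_val_one, mul_one, mul_zero, add_zero]
      exact hk0.2) hpC).conj (inv_mem hTK) (inv_mem hTG)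
  rwa [inv_mulVec] at this

end CfsgLib.MaxSub.SUFour
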