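/-
Stabilisers of two complementary totally isotropic planes are maximal in `SU_4`, at least four fixed scalars.
-/
import Cfsg.Agent.Lib.MaxSub.SUFour.PairQ
import Cfsg.Agent.Lib.MaxSub.SUFour.Plane

set_option autoImplicit false
set_option maxHeartbeats 1000000
set_option linter.unusedSectionVars false

namespace CfsgLib.MaxSub.SUFour

open Matrix Module Cfsg Cfsg.Geo CfsgLib.UnitaryTransvection
open CfsgLib.MaxSub.PairSU (IsS IsT Pair Levi exists_S exists_T h_zero gl_ext)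
open CfsgLib.MaxSub.SubfieldGU (IsM)

variable {F : Type*} [Field F] [Fintype F] {q : ℕ} {hF : Fintype.card F = q ^ 2}

local notation "V" => Fin 4 → F
local notation "h" => Cfsg.hermForm 4 F q
local notation "σ" => frob hF
local notation "M4" => Matrix (Fin 4) (Fin 4) F
local notation "G" => Cfsg.GU 4 F q ⊓ specialLinear (Fin 4) F

include hF

variable {K : Subgroup (GL (Fin 4) F)} {D E : Submodule F (Fin 4 → F)}

/-- The overgroup contains the elements fixing both planes. -/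
def Fixes (q : ℕ) (D E : Submodule F (Fin 4 → F)) (K : Subgroup (GL (Fin 4) F)) : Prop :=
  ∀ g ∈ Cfsg.GU 4 F q ⊓ specialLinear (Fin 4) F, (∀ x ∈ D, (g : Matrix (Fin 4) (Fin 4) F) *ᵥ x ∈ D) →
    (∀ x ∈ E, (g : Matrix (Fin 4) (Fin 4) F) *ᵥ x ∈ E) → g ∈ K

theorem Fixes.symm (hH : Fixes q D E K) : Fixes q E D K := fun g hg a b => hH g hg b a

theorem Fixes.levi (P : Pair q 2 D E) (hH : Fixes q D E K) : Levi q D E K := fun a ha b hb hab m hm hS =>
  hH m hm (fun x hx => by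
    rw [hS x, P.tsD x hx a ha, zero_smul, add_zero]
    exact D.sub_mem hx (D.smul_mem _ ha)) fun x hx => by
    rw [hS x, P.tsE x hx b hb, zero_smul, sub_zero]
    exact E.add_mem hx (E.smul_mem _ hb)

/-- The plane is spanned by two independent vectors of it. -/
theorem mem_pair (P : Pair q 2 D E) {d₁ d₂ e₁ e₂ : V} (h1 : d₁ ∈ D) (h2 : d₂ ∈ D) (h3 : e₁ ∈ E)
    (h4 : e₂ ∈ E) (a : h d₁ e₁ = 1) (b : h d₁ e₂ = 0) (c : h d₂ e₁ = 0) (d : h d₂ e₂ = 1) (x : V) :
    x = h x e₁ • d₁ + h x e₂ • d₂ + h x d₁ • e₁ + h x d₂ • e₂ := by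
  have hh := fun z hz z' hz' => P.tsD z hz z' hz'
  have ha' : h e₁ d₁ = 1 := by rw [← h_swap hF, a, map_one]
  have hd' : h e₂ d₂ = 1 := by rw [← h_swap hF, d, map_one]
  set y := h x e₁ • d₁ + h x e₂ • d₂ + h x d₁ • e₁ + h x d₂ • e₂ with hy
  have hv : ∀ z, z = d₁ ∨ z = d₂ ∨ z = e₁ ∨ z = e₂ → h (x - y) z = 0 := by
    rintro z (rfl | rfl | rfl | rfl) <;>
      simp only [hy, h_sub_left, h_add_left, h_smul_left, P.tsD _ h1 _ h1, P.tsD _ h1 _ h2,
        P.tsD _ h2 _ h1, P.tsD _ h2 _ h2, P.tsE _ h3 _ h3, P.tsE _ h3 _ h4, P.tsE _ h4 _ h3,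
        P.tsE _ h4 _ h4, a, b, c, d, ha', hd', h_zero (hF := hF) b, h_zero (hF := hF) c, mul_zero,
        mul_one, add_zero, zero_add, sub_self]
  refine sub_eq_zero.1 (h_nondeg hF fun z => ?_)
  have hli := indep_four (hF := hF) P h1 h2 h3 h4 (by rw [a]; exact one_ne_zero) b c
    (by rw [d]; exact one_ne_zero)
  have hsp : z ∈ Submodule.span F (Set.range ![d₁, d₂, e₁, e₂]) := by
    rw [hli.span_eq_top_of_card_eq_finrank (by simp)]; exact Submodule.mem_top
  obtain ⟨t, rfl⟩ := (Submodule.mem_span_range_iff_exists_fun F).1 hsp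
  rw [h_sum_right (hF := hF)]
  refine Finset.sum_eq_zero fun i _ => ?_
  rw [h_smul_right hF, hv _ (by fin_cases i <;> simp), mul_zero]

/-- An element fixing one plane and moving the other gives all centres of the first. -/
theorem ctr_of_fix (P : Pair q 2 D E) (hKG : K ≤ G) (hH : Fixes q D E K) {k : GL (Fin 4) F} (hk : k ∈ K)
    (hD : ∀ x ∈ D, (k : M4) *ᵥ x ∈ D) {x₀ : V} (hx₀ : x₀ ∈ E) (hmov : (k : M4) *ᵥ x₀ ∉ E) :
    ∀ e ∈ D, Ctr hF K e := by
  have hkG := hKG hk
  obtain ⟨d₁, hd₁, hd₁0⟩ := Submodule.exists_mem_ne_zero_of_ne_bot (p := D) fun e => by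
    have := P.finD; rw [e, finrank_bot] at this; omega
  obtain ⟨d₂, hd₂, hd₂1⟩ : ∃ d₂ ∈ D, d₂ ∉ Submodule.span F {d₁} := by
    by_contra hc
    push Not at hc
    have h3 := Submodule.finrank_mono hc
    rw [P.finD, finrank_span_singleton hd₁0] at h3
    omega
  have hi : LinearIndependent F ![d₁, d₂] := LinearIndependent.pair_iff.2 fun s t e => by
    have ht : t = 0 := by
      by_contra ht
      refine hd₂1 (Submodule.mem_span_singleton.2 ⟨-(s / t), ?_⟩)
      refine smul_right_injective V ht ?_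
      show t • (-(s / t)) • d₁ = t • d₂
      rw [smul_smul, mul_neg, mul_div_cancel₀ _ ht, eq_neg_of_add_eq_zero_right e]
      module
    rw [ht, zero_smul, add_zero, smul_eq_zero, or_iff_left hd₁0] at e
    exact ⟨e, ht⟩
  obtain ⟨e₁, he₁, e₂, he₂, a, b, c, d⟩ := dual_pair (hF := hF) P hd₁ hd₂ hi
  have hkinj := Matrix.mulVec_injective_iff_isUnit.2 k.isUnit
  obtain ⟨f₁, hf₁, f₂, hf₂, a', b', c', d'⟩ := dual_pair (hF := hF) P (hD _ hd₁) (hD _ hd₂)
    (LinearIndependent.pair_iff.2 fun s t e => LinearIndependent.pair_iff.1 hi s t (hkinj (by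
      rw [Matrix.mulVec_add, Matrix.mulVec_smul, Matrix.mulVec_smul, e, Matrix.mulVec_zero])))
  have hb : LinearIndependent F ![d₁, d₂, e₁, e₂] := indep_four (hF := hF) P hd₁ hd₂ he₁ he₂
    (by rw [a]; exact one_ne_zero) b c (by rw [d]; exact one_ne_zero)
  obtain ⟨A, hA, -, hAb⟩ := exists_map (hF := hF) hb
    (b' := ![(k : M4) *ᵥ d₁, (k : M4) *ᵥ d₂, f₁, f₂]) (fun i l => by
      have t1 := P.tsD _ hd₁; have t2 := P.tsD _ hd₂
      have t3 := P.tsE _ he₁; have t4 := P.tsE _ he₂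
      have s3 := P.tsE _ hf₁; have s4 := P.tsE _ hf₂
      have a1 : h e₁ d₁ = 1 := by rw [← h_swap hF, a, map_one]
      have d1 : h e₂ d₂ = 1 := by rw [← h_swap hF, d, map_one]
      have a2 : h f₁ ((k : M4) *ᵥ d₁) = 1 := by rw [← h_swap hF, a', map_one]
      have d2 : h f₂ ((k : M4) *ᵥ d₂) = 1 := by rw [← h_swap hF, d', map_one]
      fin_cases i <;> fin_cases l <;>
        simp [G_isometry hkG, t1 _ hd₁, t1 _ hd₂, t2 _ hd₁, t2 _ hd₂, t3 _ he₁, t3 _ he₂, t4 _ he₁,
          t4 _ he₂, s3 _ hf₁, s3 _ hf₂, s4 _ hf₁, s4 _ hf₂, a, b, c, d, a1, d1, a', b', c', d', a2, d2,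
          h_zero (hF := hF) b, h_zero (hF := hF) c, h_zero (hF := hF) b', h_zero (hF := hF) c'])
  have hA1 : A *ᵥ d₁ = (k : M4) *ᵥ d₁ := hAb 0
  have hA2 : A *ᵥ d₂ = (k : M4) *ᵥ d₂ := hAb 1
  have hA3 : A *ᵥ e₁ = f₁ := hAb 2
  have hA4 : A *ᵥ e₂ = f₂ := hAb 3
  have hAinj : Function.Injective (Matrix.mulVec A) := fun x y e => sub_eq_zero.1
    (h_nondeg hF fun z => by rw [← hA, Matrix.mulVec_sub, e, sub_self, h_zero_left (hF := hF)])
  obtain ⟨N, hN⟩ := Matrix.mulVec_injective_iff_isUnit.1 hAinj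
  obtain ⟨B, hB⟩ : ∃ B : M4, B = ((N⁻¹ : M4ˣ) : M4) * (k : M4) := ⟨_, rfl⟩
  have hAB : ∀ x, A *ᵥ (B *ᵥ x) = (k : M4) *ᵥ x := fun x => by
    rw [hB, Matrix.mulVec_mulVec, ← mul_assoc, ← hN, Units.mul_inv, one_mul]
  have hBiso : ∀ x y, h (B *ᵥ x) (B *ᵥ y) = h x y := fun x y => by
    rw [← hA (B *ᵥ x), hAB, hAB, G_isometry hkG]
  have B1 : B *ᵥ d₁ = d₁ := hAinj (by rw [hAB, hA1])
  have B2 : B *ᵥ d₂ = d₂ := hAinj (by rw [hAB, hA2])
  have hw : ∀ e, B *ᵥ e - e ∈ D := fun e => mem_of_perp (hF := hF) P fun y hy => by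
    rw [mem_pair (hF := hF) P hd₁ hd₂ he₁ he₂ a b c d y, P.tsD y hy _ hd₁, P.tsD y hy _ hd₂]
    simp only [zero_smul, add_zero, h_add_right hF, h_smul_right hF, h_sub_left]
    rw [show h (B *ᵥ e) d₁ = h e d₁ by conv_lhs => rw [← B1, hBiso],
      show h (B *ᵥ e) d₂ = h e d₂ by conv_lhs => rw [← B2, hBiso]]
    simp only [sub_self, mul_zero, add_zero]
  set w₁ := B *ᵥ e₁ - e₁ with hw₁
  set w₂ := B *ᵥ e₂ - e₂ with hw₂
  have hwexp : ∀ w ∈ D, w = h w e₁ • d₁ + h w e₂ • d₂ := fun w hw' => by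
    conv_lhs => rw [mem_pair (hF := hF) P hd₁ hd₂ he₁ he₂ a b c d w]
    rw [P.tsD w hw' _ hd₁, P.tsD w hw' _ hd₂, zero_smul, zero_smul, add_zero, add_zero]
  have hBact : ∀ x, B *ᵥ x = x + (h x d₁ * h w₁ e₁ + h x d₂ * h w₂ e₁) • d₁ +
      (h x d₁ * h w₁ e₂ + h x d₂ * h w₂ e₂) • d₂ := fun x => by
    have e := mem_pair (hF := hF) P hd₁ hd₂ he₁ he₂ a b c d x
    calc B *ᵥ x = B *ᵥ (h x e₁ • d₁ + h x e₂ • d₂ + h x d₁ • e₁ + h x d₂ • e₂) := by rw [← e]
      _ = (h x e₁ • d₁ + h x e₂ • d₂ + h x d₁ • e₁ + h x d₂ • e₂) + h x d₁ • w₁ + h x d₂ • w₂ := by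
        simp only [Matrix.mulVec_add, Matrix.mulVec_smul, B1, B2, hw₁, hw₂]
        module
      _ = _ := by
        rw [← e, hwexp w₁ (hw e₁), hwexp w₂ (hw e₂)]
        simp only [h_add_left, h_smul_left, a, b, c, d]
        module
  have hBdet : B.det = 1 := by
    have hcol : B * colM ![d₁, d₂, e₁, e₂] = colM ![d₁, d₂, e₁, e₂] *
        !![1, 0, h w₁ e₁, h w₂ e₁; 0, 1, h w₁ e₂, h w₂ e₂; 0, 0, 1, 0; 0, 0, 0, 1] := by
      ext r i
      show (B *ᵥ ![d₁, d₂, e₁, e₂] i) r = _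
      rw [hBact, Matrix.mul_apply, Fin.sum_univ_four]
      fin_cases i <;>
        simp [colM, P.tsD _ hd₁ _ hd₁, P.tsD _ hd₁ _ hd₂, P.tsD _ hd₂ _ hd₁, P.tsD _ hd₂ _ hd₂,
          show h e₁ d₁ = 1 by rw [← h_swap hF, a, map_one],
          show h e₂ d₂ = 1 by rw [← h_swap hF, d, map_one], h_zero (hF := hF) b,
          h_zero (hF := hF) c] <;> ring
    have h1 := congrArg Matrix.det hcol
    rw [Matrix.det_mul, Matrix.det_mul] at h1
    have hU : (!![1, 0, h w₁ e₁, h w₂ e₁; 0, 1, h w₁ e₂, h w₂ e₂; 0, 0, 1, 0; 0, 0, 0, 1] : M4).det = 1 := by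
      rw [Matrix.det_of_isUpperTriangular (by
        intro i j hij
        fin_cases i <;> fin_cases j <;> first | rfl | simp at hij), Fin.prod_univ_four]
      simp
    rw [hU, mul_one] at h1
    refine mul_right_cancel₀ ?_ (h1.trans (one_mul _).symm)
    refine ((Matrix.isUnit_iff_isUnit_det _).1 (Matrix.linearIndependent_cols_iff_isUnit.1 ?_)).ne_zero
    show LinearIndependent F ![d₁, d₂, e₁, e₂]
    exact hb
  have hmG : sg B hBdet ∈ G := sg_mem hBiso hBdet
  have hAdet : A.det = 1 := by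
    have : A * B = (k : M4) := by rw [hB, ← mul_assoc, ← hN, Units.mul_inv, one_mul]
    have h1 := congrArg Matrix.det this
    rwa [Matrix.det_mul, hBdet, mul_one, show (k : M4).det = 1 from congrArg Units.val hkG.2] at h1
  have hAK : sg A hAdet ∈ K := hH _ (sg_mem hA hAdet)
    (fun x hx => by
      show A *ᵥ x ∈ D
      rw [hwexp x hx, Matrix.mulVec_add, Matrix.mulVec_smul, Matrix.mulVec_smul, hA1, hA2]
      exact D.add_mem (D.smul_mem _ (hD _ hd₁)) (D.smul_mem _ (hD _ hd₂)))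
    fun x hx => by
      show A *ᵥ x ∈ E
      rw [mem_pair (hF := hF) P hd₁ hd₂ he₁ he₂ a b c d x, P.tsE x hx _ he₁, P.tsE x hx _ he₂]
      simp only [zero_smul, zero_add, Matrix.mulVec_add, Matrix.mulVec_smul, hA3, hA4]
      exact E.add_mem (E.smul_mem _ hf₁) (E.smul_mem _ hf₂)
  have hmK : sg B hBdet ∈ K := by
    have hval : sg B hBdet = (sg A hAdet)⁻¹ * k := by
      rw [eq_inv_mul_iff_mul_eq]
      exact gl_ext fun x => by
        rw [Units.val_mul, ← Matrix.mulVec_mulVec]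
        exact hAB x
    rw [hval]
    exact mul_mem (inv_mem hAK) hk
  obtain ⟨κ, hκ0, hκs⟩ := exists_skew hF
  have hκ : σ κ = -κ := by linear_combination hκs
  have hsk : ∀ i l, ∀ e e', (i = B *ᵥ e - e) → (l = B *ᵥ e' - e') → e ∈ E → e' ∈ E →
      h i e' + h e l = 0 := by
    rintro i l e e' rfl rfl he he'
    have h2 : h (B *ᵥ e - e) (B *ᵥ e' - e') = 0 := P.tsD _ (hw e) _ (hw e')
    have h3 := hBiso e e'
    simp only [h_sub_left, h_sub_right hF] at h2 ⊢
    linear_combination h3 - h2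
  have s11 := hsk _ _ e₁ e₁ hw₁ hw₁ he₁ he₁
  have s12 := hsk _ _ e₁ e₂ hw₁ hw₂ he₁ he₂
  have s22 := hsk _ _ e₂ e₂ hw₂ hw₂ he₂ he₂
  rw [← h_swap hF w₁ e₁] at s11
  rw [← h_swap hF w₂ e₁] at s12
  rw [← h_swap hF w₂ e₂] at s22
  refine ctr_all_of_M (hF := hF) P hKG (hH.levi (hF := hF) P) hκ hκ0 hd₁ hd₂ hd₁0 hd₂1 (α := h w₁ e₁ / κ)
    (β := h w₂ e₁ / κ) (δ := h w₂ e₂ / κ) hmK (fun x => ?_) ?_ ?_ ?_
  · show B *ᵥ x = _
    rw [hBact]
    congr 1
    · congr 2
      field_simp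
    · congr 1
      rw [map_div₀, hκ]
      field_simp
      linear_combination h x d₁ * s12
  · rw [map_div₀, hκ, show σ (h w₁ e₁) = -h w₁ e₁ by linear_combination s11, neg_div_neg_eq]
  · rw [map_div₀, hκ, show σ (h w₂ e₂) = -h w₂ e₂ by linear_combination s22, neg_div_neg_eq]
  · by_contra hne
    simp only [not_or, not_not, div_eq_zero_iff, or_iff_left hκ0] at hne
    refine hmov ?_
    rw [← hAB, hBact, hne.1, hne.2.1, hne.2.2, show h w₁ e₂ = 0 by
      rw [hne.2.1, map_zero, add_zero] at s12; exact s12]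
    simp only [mul_zero, add_zero, zero_smul]
    rw [mem_pair (hF := hF) P hd₁ hd₂ he₁ he₂ a b c d x₀, P.tsE x₀ hx₀ _ he₁, P.tsE x₀ hx₀ _ he₂]
    simp only [zero_smul, zero_add, Matrix.mulVec_add, Matrix.mulVec_smul, hA3, hA4]
    exact E.add_mem (E.smul_mem _ hf₁) (E.smul_mem _ hf₂)

/-- The diagonal element on a hyperbolic basis. -/
theorem exists_torus (P : Pair q 2 D E) (hH : Fixes q D E K) {d d' e e' : V} (h1 : d ∈ D) (h2 : d' ∈ D)
    (h3 : e ∈ E) (h4 : e' ∈ E) (a : h d e ≠ 0) (b : h d e' = 0) (c : h d' e = 0) (a' : h d' e' ≠ 0)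
    {s : F} (hs : σ s = s) (hs0 : s ≠ 0) :
    ∃ k ∈ K, (k : M4) *ᵥ d = d ∧ (k : M4) *ᵥ e = e ∧ (k : M4) *ᵥ d' = s • d' ∧
      (k : M4) *ᵥ e' = s⁻¹ • e' := by
  have hb : LinearIndependent F ![d, d', e, e'] := indep_four (hF := hF) P h1 h2 h3 h4 a b c a'
  obtain ⟨A, hA, -, hAb⟩ := exists_map (hF := hF) hb (b' := ![d, s • d', e, s⁻¹ • e']) fun i l => by
    fin_cases i <;> fin_cases l <;>
      simp [h_smul_left, h_smul_right hF, hs, hs0, P.tsD _ h1 _ h1, P.tsD _ h1 _ h2, P.tsD _ h2 _ h1,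
        P.tsD _ h2 _ h2, P.tsE _ h3 _ h3, P.tsE _ h3 _ h4, P.tsE _ h4 _ h3, P.tsE _ h4 _ h4, b, c,
        h_zero (hF := hF) b, h_zero (hF := hF) c]
  have hdet : A.det = 1 := by
    have hcol : A * colM ![d, d', e, e'] = colM ![d, d', e, e'] * Matrix.diagonal ![1, s, 1, s⁻¹] := by
      ext r i
      rw [Matrix.mul_diagonal]
      show (A *ᵥ ![d, d', e, e'] i) r = ![d, d', e, e'] i r * _
      rw [hAb]
      fin_cases i <;> simp [mul_comm]
    have h5 := congrArg Matrix.det hcol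
    rw [Matrix.det_mul, Matrix.det_mul, Matrix.det_diagonal, Fin.prod_univ_four] at h5
    have hb0 : (colM ![d, d', e, e']).det ≠ 0 := by
      refine ((Matrix.isUnit_iff_isUnit_det _).1 (Matrix.linearIndependent_cols_iff_isUnit.1 ?_)).ne_zero
      show LinearIndependent F ![d, d', e, e']
      exact hb
    refine mul_right_cancel₀ hb0 ?_
    rw [h5]
    simp [hs0]
  have e1 : A *ᵥ d = d := hAb 0
  have e2 : A *ᵥ d' = s • d' := hAb 1
  have e3 : A *ᵥ e = e := hAb 2
  have e4 : A *ᵥ e' = s⁻¹ • e' := hAb 3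
  have hsp : ∀ {X : Submodule F V} {u v : V}, u ∈ X → v ∈ X → finrank F X = 2 →
      LinearIndependent F ![u, v] → ∀ x ∈ X, ∃ s t : F, s • u + t • v = x := fun {X u v} hu hv hX hi x hx => by
    have hle : Submodule.span F {u, v} ≤ X := Submodule.span_le.2 (by rintro y (rfl | rfl) <;> assumption)
    have := finrank_span_eq_card hi
    rw [Matrix.range_cons, Matrix.range_cons, Matrix.range_empty, Set.union_empty, Set.singleton_union,
      Fintype.card_fin] at this
    rw [← Submodule.eq_of_le_of_finrank_le hle (by omega)] at hx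
    exact Submodule.mem_span_pair.1 hx
  have hiD : LinearIndependent F ![d, d'] := LinearIndependent.pair_iff.2 fun x y hxy => by
    have := Fintype.linearIndependent_iff.1 hb ![x, y, 0, 0] (by simp [Fin.sum_univ_four, hxy])
    exact ⟨this 0, this 1⟩
  have hiE : LinearIndependent F ![e, e'] := LinearIndependent.pair_iff.2 fun x y hxy => by
    have := Fintype.linearIndependent_iff.1 hb ![0, 0, x, y] (by simp [Fin.sum_univ_four, add_assoc, hxy])
    exact ⟨this 2, this 3⟩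
  refine ⟨sg A hdet, hH _ (sg_mem hA hdet) (fun x hx => ?_) (fun x hx => ?_), e1, e3, e2, e4⟩
  · obtain ⟨x1, x2, rfl⟩ := hsp h1 h2 P.finD hiD x hx
    show A *ᵥ _ ∈ D
    rw [Matrix.mulVec_add, Matrix.mulVec_smul, Matrix.mulVec_smul, e1, e2]
    exact D.add_mem (D.smul_mem _ h1) (D.smul_mem _ (D.smul_mem _ h2))
  · obtain ⟨x1, x2, rfl⟩ := hsp h3 h4 P.finE hiE x hx
    show A *ᵥ _ ∈ E
    rw [Matrix.mulVec_add, Matrix.mulVec_smul, Matrix.mulVec_smul, e3, e4]
    exact E.add_mem (E.smul_mem _ h3) (E.smul_mem _ (E.smul_mem _ h4))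

/-- A fixed scalar whose square is not one. -/
theorem exists_fixed_sq (hq : 4 ≤ q) : ∃ s : F, σ s = s ∧ s ≠ 0 ∧ s * s ≠ 1 := by
  obtain ⟨g, hg⟩ := IsCyclic.exists_ofOrder_eq_natCard (α := Fˣ)
  rw [Nat.card_units, Nat.card_eq_fintype_card, hF] at hg
  refine ⟨(g : F) * σ (g : F), by rw [map_mul, frob_frob hF, mul_comm], mul_ne_zero (Units.ne_zero g)
    ((map_ne_zero σ).2 (Units.ne_zero g)), fun e => ?_⟩
  have h1 : g ^ (2 * (q + 1)) = 1 := Units.ext (by
    rw [Units.val_pow_eq_pow_val, Units.val_one, ← e, frob_apply, two_mul, pow_add, pow_succ']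
    )
  have h2 := Nat.le_of_dvd (by omega) (orderOf_dvd_of_pow_eq_one h1)
  rw [hg] at h2
  have : 4 * q ≤ q ^ 2 := by rw [sq]; exact Nat.mul_le_mul_right q hq
  omega

/-- An element fixing a point of the first plane, but not the plane. -/
theorem ctr_of_meet (P : Pair q 2 D E) (hq : 4 ≤ q) (hKG : K ≤ G) (hH : Fixes q D E K) {g : GL (Fin 4) F}
    (hg : g ∈ K) {u₀ : V} (hu₀ : u₀ ∈ D) (hu₀0 : u₀ ≠ 0) (hu : (g : M4) *ᵥ u₀ ∈ D) {d₀ : V} (hd₀ : d₀ ∈ D)
    (hout : (g : M4) *ᵥ d₀ ∉ D) : (∀ e ∈ D, Ctr hF K e) ∨ ∀ e ∈ E, Ctr hF K e := by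
  have hgi := G_isometry (hKG hg)
  have hL := hH.levi (hF := hF) P
  obtain ⟨v₀, hv₀, hv₀u, hv₀0⟩ := P.symm.exists_perp_one (U := (⊥ : Submodule F V)) u₀
    (by rw [finrank_bot])
  rw [Submodule.mem_bot] at hv₀0
  have huv₀ := h_zero (hF := hF) hv₀u
  obtain ⟨u, hudef⟩ : ∃ u, u = (g : M4) *ᵥ u₀ := ⟨_, rfl⟩
  obtain ⟨v, hvdef⟩ : ∃ v, v = (g : M4) *ᵥ v₀ := ⟨_, rfl⟩
  rw [← hudef] at hu
  have hinj := Matrix.mulVec_injective_iff_isUnit.2 g.isUnit
  have hu0 : u ≠ 0 := fun e => hu₀0 (hinj ((hudef.symm.trans e).trans (Matrix.mulVec_zero _).symm))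
  have hv0 : v ≠ 0 := fun e => hv₀0 (hinj ((hvdef.symm.trans e).trans (Matrix.mulVec_zero _).symm))
  have huv : h u v = 0 := by rw [hudef, hvdef, hgi]; exact huv₀
  by_cases hvE : v ∈ E
  swap
  · left
    have hroot : ∀ l : F, ∃ k ∈ K, IsS q u (l • v) k := fun l => by
      obtain ⟨m, hmG, hm⟩ := exists_S (hF := hF) (P.tsD u₀ hu₀ u₀ hu₀)
        (P.tsE _ (E.smul_mem l hv₀) _ (E.smul_mem l hv₀))
        (show h u₀ (l • v₀) = 0 by rw [h_smul_right hF, huv₀, mul_zero])
      refine ⟨g * m * g⁻¹, mul_mem (mul_mem hg (hL u₀ hu₀ _ (E.smul_mem l hv₀)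
        (by rw [h_smul_right hF, huv₀, mul_zero]) m hmG hm)) (inv_mem hg), ?_⟩
      rw [hudef, hvdef, ← Matrix.mulVec_smul]
      exact PairSU.conj_isS (hKG hg) hm
    obtain ⟨l, x₀, hx₀, hmov⟩ : ∃ l : F, ∃ x ∈ E, x + h x u • (l • v) - h x (l • v) • u ∉ E := by
      by_contra hc
      push Not at hc
      obtain ⟨η, hη⟩ : ∃ η : F, σ η ≠ η := by
        by_contra e
        push Not at e
        exact frob_ne_id hF (RingHom.ext e)
      have huE : u ∉ E := fun e => hu0 (Submodule.disjoint_def.1 P.compl.disjoint u hu e)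
      refine hvE (mem_of_perp (hF := hF) P.symm fun x hx => ?_)
      have e1 := E.sub_mem (E.sub_mem (hc η x hx) hx) (E.smul_mem η (E.sub_mem (hc 1 x hx) hx))
      rw [show x + h x u • η • v - h x (η • v) • u - x - η • (x + h x u • (1 : F) • v - h x ((1 : F) • v) • u - x)
        = ((η - σ η) * h x v) • u by rw [h_smul_right hF, one_smul]; module] at e1
      by_contra hne
      exact huE ((Submodule.smul_mem_iff _ (mul_ne_zero (sub_ne_zero.2 (Ne.symm hη))
        (fun e => hne (h_zero (hF := hF) e)))).1 e1)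
    obtain ⟨k, hk, hkS⟩ := hroot l
    exact ctr_of_fix (hF := hF) P hKG hH hk (fun x hx => by
      rw [hkS x, P.tsD x hx u hu, zero_smul, add_zero]
      exact D.sub_mem hx (D.smul_mem _ hu)) hx₀ (by rwa [hkS x₀])
  by_cases hgE : ∀ x ∈ E, (g : M4) *ᵥ x ∈ E
  · exact Or.inr (ctr_of_fix (hF := hF) P.symm hKG (hH.symm (hF := hF)) hg hgE hd₀ hout)
  push Not at hgE
  obtain ⟨y₀, hy₀, hy⟩ := hgE
  obtain ⟨e1, he1, hue1, -⟩ := P.exists_in (hF := hF) (U := (⊥ : Submodule F V)) bot_le hu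
    (by rwa [Submodule.mem_bot])
  obtain ⟨d2, hd2, hvd2, he1d2⟩ := P.symm.exists_in (hF := hF) ((Submodule.span_singleton_le_iff_mem _ _).2 he1)
    hvE (fun hh => by
      obtain ⟨t, ht⟩ := Submodule.mem_span_singleton.1 hh
      rw [← ht, h_smul_right hF, hue1, mul_one, map_eq_zero] at huv
      exact hv0 (by rw [← ht, huv, zero_smul]))
  have he1d2' : h d2 e1 = 0 := h_zero (hF := hF) (he1d2 _ (Submodule.mem_span_singleton_self _))
  have hd2v : h d2 v = 1 := by rw [← h_swap hF, hvd2, map_one]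
  obtain ⟨s, hs, hs0, hs2⟩ := exists_fixed_sq (hF := hF) hq
  obtain ⟨m, hm, m1, m2, m3, m4⟩ := exists_torus (hF := hF) P hH hd2 hu hvE he1 (by rw [hd2v]; exact one_ne_zero)
    he1d2' huv (by rw [hue1]; exact one_ne_zero) hs hs0
  have hk : g⁻¹ * m * g ∈ K := mul_mem (mul_mem (inv_mem hg) hm) hg
  have hkv : ∀ x, ((g⁻¹ * m * g : GL (Fin 4) F) : M4) *ᵥ x =
      ((g⁻¹ : GL (Fin 4) F) : M4) *ᵥ ((m : M4) *ᵥ ((g : M4) *ᵥ x)) := fun x => by
    simp only [Units.val_mul, ← Matrix.mulVec_mulVec]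
  have hexp : ∀ x, x = h x v • d2 + h x e1 • u + h x d2 • v + h x u • e1 :=
    mem_pair (hF := hF) P hd2 hu hvE he1 hd2v he1d2' huv hue1
  have hmx : ∀ x, (m : M4) *ᵥ x = x + (h x e1 * (s - 1)) • u + (h x u * (s⁻¹ - 1)) • e1 := fun x => by
    calc (m : M4) *ᵥ x = (m : M4) *ᵥ (h x v • d2 + h x e1 • u + h x d2 • v + h x u • e1) := by rw [← hexp x]
      _ = (h x v • d2 + h x e1 • u + h x d2 • v + h x u • e1) + (h x e1 * (s - 1)) • u +
          (h x u * (s⁻¹ - 1)) • e1 := by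
        simp only [Matrix.mulVec_add, Matrix.mulVec_smul, m1, m2, m3, m4]; module
      _ = _ := by rw [← hexp x]
  left
  refine ctr_of_fix (hF := hF) P hKG hH hk (fun x hx => ?_) hy₀ fun hmem => ?_
  · have hxu : h ((g : M4) *ᵥ x) u = 0 := by rw [hudef, hgi]; exact P.tsD x hx u₀ hu₀
    rw [hkv, hmx, hxu, zero_mul, zero_smul, add_zero, Matrix.mulVec_add, Matrix.mulVec_smul, inv_mulVec,
      hudef, inv_mulVec]
    exact D.add_mem hx (D.smul_mem _ hu₀)
  set y := (g : M4) *ᵥ y₀ with hydef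
  have hyv : h y v = 0 := by rw [hydef, hvdef, hgi]; exact P.tsE y₀ hy₀ v₀ hv₀
  have hge : ∀ r ∈ E, ∃ a b : F, (g : M4) *ᵥ r = a • y + b • v := by
    intro r hr
    have hi : LinearIndependent F ![y₀, v₀] := LinearIndependent.pair_iff.2 fun a b e => by
      have ha : a = 0 := by
        by_contra ha
        refine hy ?_
        have e2 := congrArg (fun z => (g : M4) *ᵥ z) e
        simp only [Matrix.mulVec_add, Matrix.mulVec_smul, Matrix.mulVec_zero, ← hydef, ← hvdef] at e2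
        exact (Submodule.smul_mem_iff _ ha).1 (eq_neg_of_add_eq_zero_left e2 ▸ E.neg_mem (E.smul_mem b hvE))
      rw [ha, zero_smul, zero_add, smul_eq_zero, or_iff_left hv₀0] at e
      exact ⟨ha, e⟩
    have hle : Submodule.span F {y₀, v₀} ≤ E := Submodule.span_le.2 (by rintro z (rfl | rfl) <;> assumption)
    have h6 := finrank_span_eq_card hi
    rw [Matrix.range_cons, Matrix.range_cons, Matrix.range_empty, Set.union_empty, Set.singleton_union,
      Fintype.card_fin] at h6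
    rw [← Submodule.eq_of_le_of_finrank_le hle (by rw [P.finE]; omega)] at hr
    obtain ⟨a, b, rfl⟩ := Submodule.mem_span_pair.1 hr
    exact ⟨a, b, by rw [Matrix.mulVec_add, Matrix.mulVec_smul, Matrix.mulVec_smul, hydef, hvdef]⟩
  obtain ⟨a, b, hab⟩ := hge _ hmem
  rw [hkv, mul_inv_mulVec, ← hydef, hmx] at hab
  have k1 := congrArg (fun z => h z e1) hab
  have k2 := congrArg (fun z => h z u) hab
  simp only [h_add_left, h_smul_left, P.tsD u hu u hu, P.tsE e1 he1 e1 he1, P.tsE v hvE e1 he1, hue1,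
    show h e1 u = 1 by rw [← h_swap hF, hue1, map_one], h_zero (hF := hF) huv, mul_zero, mul_one,
    add_zero] at k1 k2
  have hsne : s - s⁻¹ ≠ 0 := fun e => hs2 (by
    rw [sub_eq_zero] at e; nth_rewrite 1 [e]; rw [inv_mul_cancel₀ hs0])
  by_cases hyu : h y e1 = 0
  · refine hy ?_
    rw [hexp y, hyu, hyv]
    simp only [zero_smul, zero_add]
    exact E.add_mem (E.smul_mem _ hvE) (E.smul_mem _ he1)
  have ha : a = s := mul_right_cancel₀ hyu (by linear_combination -k1)
  have hyu' : h y u = 0 := (mul_eq_zero.1 (show (s - s⁻¹) * h y u = 0 by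
    rw [ha] at k2; linear_combination -k2)).resolve_left hsne
  have hey : y = h y e1 • u + h y d2 • v := by
    conv_lhs => rw [hexp y, hyu', hyv]
    simp
  have h7 : y₀ = h y e1 • u₀ + h y d2 • v₀ := hinj (by
    show (g : M4) *ᵥ _ = (g : M4) *ᵥ _
    rw [Matrix.mulVec_add, Matrix.mulVec_smul, Matrix.mulVec_smul, ← hudef, ← hvdef, ← hydef, ← hey])
  have h8 : h y e1 • u₀ ∈ E := by
    rw [eq_sub_of_add_eq h7.symm]
    exact E.sub_mem hy₀ (E.smul_mem _ hv₀)
  exact hu₀0 (Submodule.disjoint_def.1 P.compl.disjoint _ hu₀ ((Submodule.smul_mem_iff _ hyu).1 h8))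

/-- Stabilisers of two complementary totally isotropic planes are maximal in `SU_4`. -/
theorem su4_pair_maximal (hq : 4 ≤ q) {D : Fin 2 → Submodule F V} (hD : IsMDecomposition 2 D)
    (hts : ∀ i, IsTotallySingularFor h (D i)) : IsMaximalIn G (decompositionStabilizer D ⊓ G) := by
  refine ⟨lt_of_le_of_ne inf_le_right fun e =>
    CfsgLib.Aschbacher.not_SU_le_decomposition hF (by omega) (by omega) hD
      (show G ≤ _ from e.ge.trans inf_le_left), fun K hK hKG => ?_⟩
  by_cases hle : K ≤ decompositionStabilizer D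
  · exact Or.inl (le_antisymm (le_inf hle hKG) hK)
  obtain ⟨g, hg, hgD⟩ := Set.not_subset.1 hle
  refine Or.inr (le_antisymm hKG (SU_le_of_ctr (hF := hF) (le_refl 4) fun z hz => ?_))
  have hc : IsCompl (D 0) (D 1) := by
    have h1 : Disjoint (D 0) (D 1) := hD.indep.pairwiseDisjoint (by decide)
    refine ⟨h1, codisjoint_iff.2 (Submodule.eq_top_of_finrank_eq ?_)⟩
    have h2 := Submodule.finrank_sup_add_finrank_inf_eq (D 0) (D 1)
    rw [h1.eq_bot, finrank_bot, hD.finrank_eq 0, hD.finrank_eq 1] at h2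
    rw [Module.finrank_fin_fun]; omega
  have P : Pair q 2 (D 0) (D 1) := ⟨hD.finrank_eq 0, hD.finrank_eq 1, hc, hts 0, hts 1⟩
  have hH : Fixes q (D 0) (D 1) K := fun m hm a b => hK ⟨mem_decomp_stab hD 1 fun i x hx => by
    fin_cases i
    · exact a x hx
    · exact b x hx, hm⟩
  obtain ⟨j, hj, hj0, hj1⟩ := PairSU.exists_swap (hF := hF) P
  have hjK : j ∈ K := hK ⟨mem_decomp_stab hD (Equiv.swap 0 1) fun i x hx => by
    fin_cases i
    · exact hj0 x hx
    · exact hj1 x hx, hj⟩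
  have hinv : ∀ {A A' : Submodule F V}, finrank F A = finrank F A' →
      (∀ x ∈ A, (j : M4) *ᵥ x ∈ A') → ∀ y ∈ A', ∃ x ∈ A, (j : M4) *ᵥ x = y := by
    intro A A' hr hh y hy
    have : A.map (Matrix.mulVecLin (j : M4)) = A' := Submodule.eq_of_le_of_finrank_eq
      (Submodule.map_le_iff_le_comap.2 hh) (by
        rw [← hr]
        exact (LinearEquiv.finrank_eq (Submodule.equivMapOfInjective _
          (Matrix.mulVec_injective_iff_isUnit.2 j.isUnit) A)).symm)
    exact Submodule.mem_map.1 (this.ge hy)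
  have hfin : finrank F (D 0) = finrank F (D 1) := by rw [hD.finrank_eq, hD.finrank_eq]
  -- an element fixing a point of the first plane, but not the plane, or fixing exactly one plane
  have key : ∀ g' ∈ K, g' ∉ decompositionStabilizer D → ∀ u ∈ D 0, u ≠ 0 → (g' : M4) *ᵥ u ∈ D 0 →
      (∀ e ∈ D 0, Ctr hF K e) ∨ ∀ e ∈ D 1, Ctr hF K e := by
    intro g' hg' hout u hu hu0 hgu
    by_cases hfix : ∀ x ∈ D 0, (g' : M4) *ᵥ x ∈ D 0
    · left
      obtain ⟨x, hx, hmov⟩ : ∃ x ∈ D 1, (g' : M4) *ᵥ x ∉ D 1 := by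
        by_contra hc'
        push Not at hc'
        exact hout (mem_decomp_stab hD 1 fun i x hx => by
          fin_cases i
          · exact hfix x hx
          · exact hc' x hx)
      exact ctr_of_fix (hF := hF) P hKG hH hg' hfix hx hmov
    · push Not at hfix
      obtain ⟨d, hd, hmov⟩ := hfix
      exact ctr_of_meet (hF := hF) P hq hKG hH hg' hu hu0 hgu hd hmov
  have hjg : j * g ∉ decompositionStabilizer D := fun e => hgD (by
    have : j ∈ decompositionStabilizer D := mem_decomp_stab hD (Equiv.swap 0 1) fun i x hx => by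
      fin_cases i
      · exact hj0 x hx
      · exact hj1 x hx
    have := mul_mem (inv_mem this) e
    rwa [inv_mul_cancel_left] at this)
  have hctr : (∀ e ∈ D 0, Ctr hF K e) ∨ ∀ e ∈ D 1, Ctr hF K e := by
    by_cases h0 : ∃ u ∈ D 0, u ≠ 0 ∧ (g : M4) *ᵥ u ∈ D 0
    · obtain ⟨u, hu, hu0, hgu⟩ := h0
      exact key g hg hgD u hu hu0 hgu
    by_cases h1 : ∃ u ∈ D 0, u ≠ 0 ∧ (g : M4) *ᵥ u ∈ D 1
    · obtain ⟨u, hu, hu0, hgu⟩ := h1
      exact key (j * g) (mul_mem hjK hg) hjg u hu hu0 (by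
        rw [Units.val_mul, ← Matrix.mulVec_mulVec]; exact hj1 _ hgu)
    push Not at h0 h1
    have hgi := G_isometry (hKG hg)
    -- the image of the first plane is a graph
    obtain ⟨u0, hu0, d, hd, e, he, hde, hne⟩ : ∃ u ∈ D 0, ∃ d ∈ D 0, ∃ e ∈ D 1,
        d + e = (g : M4) *ᵥ u ∧ h d e ≠ 0 := by
      by_contra hc'
      push Not at hc'
      have hzero : ∀ u ∈ D 0, ∀ u' ∈ D 0, ∀ d ∈ D 0, ∀ e ∈ D 1, ∀ d' ∈ D 0, ∀ e' ∈ D 1,
          d + e = (g : M4) *ᵥ u → d' + e' = (g : M4) *ᵥ u' → h d e' = 0 := by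
        intro u hu u' hu' d hd e he d' hd' e' he' hde hde'
        have key2 : ∀ r : F, σ r * h d e' + r * h d' e = 0 := fun r => by
          have := hc' (u + r • u') ((D 0).add_mem hu ((D 0).smul_mem r hu')) (d + r • d')
            ((D 0).add_mem hd ((D 0).smul_mem r hd')) (e + r • e') ((D 1).add_mem he ((D 1).smul_mem r he'))
            (by rw [Matrix.mulVec_add, Matrix.mulVec_smul, ← hde, ← hde']; module)
          rw [h_add_left, h_add_right hF, h_add_right hF, h_smul_left, h_smul_left, h_smul_right hF,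
            h_smul_right hF, hc' u hu d hd e he hde, hc' u' hu' d' hd' e' he' hde'] at this
          linear_combination this
        obtain ⟨η, hη⟩ : ∃ η : F, σ η ≠ η := by
          by_contra hh
          push Not at hh
          exact frob_ne_id hF (RingHom.ext hh)
        have k1 := key2 1
        have k2 := key2 η
        rw [map_one] at k1
        exact (mul_eq_zero.1 (show (σ η - η) * h d e' = 0 by linear_combination k2 - η * k1)).resolve_left
          (sub_ne_zero.2 hη)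
      obtain ⟨u, hu, hu0⟩ := Submodule.exists_mem_ne_zero_of_ne_bot (p := D 0) fun e' => by
        have := P.finD; rw [e', finrank_bot] at this; omega
      obtain ⟨d, hd, e, he, hde⟩ := P.split ((g : M4) *ᵥ u)
      let π : V →ₗ[F] V := (D 1).projection (D 0) hc.symm
      let f : D 0 →ₗ[F] V := π.comp ((Matrix.mulVecLin (g : M4)).comp (D 0).subtype)
      have hf : Function.Injective f := by
        rw [← LinearMap.ker_eq_bot]
        refine (Submodule.eq_bot_iff _).2 fun x hx => ?_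
        obtain ⟨a, ha, b, hb, hab⟩ := P.split ((g : M4) *ᵥ (x : V))
        have hfx : f x = b := by
          show (D 1).projection (D 0) hc.symm ((g : M4) *ᵥ (x : V)) = b
          rw [← hab, map_add, Submodule.projection_apply_of_mem_right hc.symm ha, zero_add,
            Submodule.projection_apply_of_mem_left hc.symm hb]
        rw [LinearMap.mem_ker, hfx] at hx
        by_contra hx0
        exact h0 x x.2 (fun e' => hx0 (Subtype.ext e')) (by rw [← hab, hx, add_zero]; exact ha)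
      have hd0 : d = 0 := by
        refine h_nondeg hF fun y => ?_
        obtain ⟨a, ha, b, hb, rfl⟩ := P.split y
        rw [h_add_right hF, P.tsD d hd a ha, zero_add]
        have hsur : LinearMap.range f = D 1 := Submodule.eq_of_le_of_finrank_eq (by
            rintro _ ⟨x, rfl⟩
            exact Submodule.projection_apply_mem hc.symm _)
          (by rw [LinearMap.finrank_range_of_inj hf]; exact hfin)
        obtain ⟨x, hx⟩ : b ∈ LinearMap.range f := hsur.symm ▸ hb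
        obtain ⟨a', ha', b', hb', hab⟩ := P.split ((g : M4) *ᵥ (x : V))
        have : b' = b := by
          rw [← hx]
          show b' = (D 1).projection (D 0) hc.symm ((g : M4) *ᵥ (x : V))
          rw [← hab, map_add, Submodule.projection_apply_of_mem_right hc.symm ha', zero_add,
            Submodule.projection_apply_of_mem_left hc.symm hb']
        rw [← this]
        exact hzero u hu x x.2 d hd e he a' ha' b' hb' hde hab
      exact h1 u hu hu0 (by rw [← hde, hd0, zero_add]; exact he)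
    obtain ⟨u1, hu1, hu1e, hu1n⟩ : ∃ u1 ∈ D 0, h ((g : M4) *ᵥ u1) e = 0 ∧ u1 ≠ 0 := by
      obtain ⟨a, ha, hae, ha0⟩ := P.exists_perp_one (U := (⊥ : Submodule F V))
        (((g⁻¹ : GL (Fin 4) F) : M4) *ᵥ e) (by rw [finrank_bot])
      rw [Submodule.mem_bot] at ha0
      exact ⟨a, ha, by rw [← mul_inv_mulVec g e, hgi]; exact hae, ha0⟩
    obtain ⟨d', hd', e', he', hde'⟩ := P.split ((g : M4) *ᵥ u1)
    have c1 : h d' e = 0 := by
      rw [← hde', h_add_left, P.tsE e' he' e he, add_zero] at hu1e; exact hu1e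
    have b1 : h d e' = 0 := by
      have h9 : h ((g : M4) *ᵥ u0) ((g : M4) *ᵥ u1) = 0 := by rw [hgi]; exact P.tsD u0 hu0 u1 hu1
      rw [← hde, ← hde', h_add_left, h_add_right hF, h_add_right hF, P.tsD d hd d' hd', P.tsE e he e' he',
        show h e d' = 0 from h_zero (hF := hF) c1] at h9
      linear_combination h9
    have hu0n : u0 ≠ 0 := fun e0 => hne (by
      rw [e0, Matrix.mulVec_zero] at hde
      rw [eq_neg_of_add_eq_zero_left hde, ← neg_one_smul F e, h_smul_left, P.tsE e he e he, mul_zero])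
    have a1 : h d' e' ≠ 0 := fun e0 => by
      -- then the part in the second plane is perpendicular to the first
      have hd'0 : d' ≠ 0 := fun h10 => h1 u1 hu1 hu1n (by rw [← hde', h10, zero_add]; exact he')
      have he'0 : e' ≠ 0 := fun h10 => h0 u1 hu1 hu1n (by rw [← hde', h10, add_zero]; exact hd')
      have hdd : d' ∉ Submodule.span F {d} := fun hh => by
        obtain ⟨t, rfl⟩ := Submodule.mem_span_singleton.1 hh
        rw [h_smul_left, mul_eq_zero, or_iff_left hne] at c1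
        exact hd'0 (by rw [c1, zero_smul])
      refine he'0 (Submodule.disjoint_def.1 hc.disjoint e' (mem_of_perp (hF := hF) P fun y hy => ?_) he')
      have hsp : Submodule.span F {d, d'} = D 0 := by
        refine Submodule.eq_of_le_of_finrank_le (Submodule.span_le.2 (by rintro z (rfl | rfl) <;> assumption)) ?_
        have hlt : Submodule.span F {d} < Submodule.span F {d, d'} :=
          lt_of_le_of_ne (Submodule.span_mono (by simp)) fun hh =>
            hdd (hh ▸ Submodule.subset_span (by simp))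
        have := Submodule.finrank_lt_finrank_of_lt hlt
        rw [finrank_span_singleton (fun h10 => hne (by rw [h10, h_zero_left (hF := hF)]))] at this
        rw [P.finD]; omega
      rw [← hsp] at hy
      obtain ⟨a, b, rfl⟩ := Submodule.mem_span_pair.1 hy
      rw [h_add_right hF, h_smul_right hF, h_smul_right hF, h_zero (hF := hF) b1, h_zero (hF := hF) e0,
        mul_zero, mul_zero, add_zero]
    obtain ⟨s, hs, hs0, hs2⟩ := exists_fixed_sq (hF := hF) hq
    obtain ⟨m, hm, m1, m2, m3, m4⟩ := exists_torus (hF := hF) P hH hd hd' he he' hne b1 c1 a1 hs hs0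
    have hk : g⁻¹ * m * g ∈ K := mul_mem (mul_mem (inv_mem hg) hm) hg
    have hkv : ∀ x, ((g⁻¹ * m * g : GL (Fin 4) F) : M4) *ᵥ x =
        ((g⁻¹ : GL (Fin 4) F) : M4) *ᵥ ((m : M4) *ᵥ ((g : M4) *ᵥ x)) := fun x => by
      simp only [Units.val_mul, ← Matrix.mulVec_mulVec]
    have hku : ((g⁻¹ * m * g : GL (Fin 4) F) : M4) *ᵥ u0 = u0 := by
      rw [hkv, ← hde, Matrix.mulVec_add, m1, m2, hde, inv_mulVec]
    have hkout : ((g⁻¹ * m * g : GL (Fin 4) F) : M4) *ᵥ u1 ∉ D 0 := fun hmem => by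
      rw [hkv, ← hde', Matrix.mulVec_add, m3, m4] at hmem
      have hx := (D 0).sub_mem hmem ((D 0).smul_mem s hu1)
      have e9 : ((g⁻¹ : GL (Fin 4) F) : M4) *ᵥ (s • d' + s⁻¹ • e') - s • u1 =
          ((g⁻¹ : GL (Fin 4) F) : M4) *ᵥ ((s⁻¹ - s) • e') := by
        conv_lhs => arg 2; rw [show u1 = ((g⁻¹ : GL (Fin 4) F) : M4) *ᵥ (d' + e') by rw [hde', inv_mulVec]]
        rw [← Matrix.mulVec_smul, ← Matrix.mulVec_sub]
        congr 1
        module
      rw [e9] at hx
      refine h1 _ hx (fun h10 => ?_) (by rw [mul_inv_mulVec]; exact (D 1).smul_mem _ he')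
      have h11 := congrArg (fun y => (g : M4) *ᵥ y) h10
      simp only [mul_inv_mulVec, Matrix.mulVec_zero, smul_eq_zero, sub_eq_zero] at h11
      rcases h11 with h11 | h11
      · exact hs2 (by nth_rewrite 1 [← h11]; rw [inv_mul_cancel₀ hs0])
      · exact h0 u1 hu1 hu1n (by rw [← hde', h11, add_zero]; exact hd')
    exact ctr_of_meet (hF := hF) P hq hKG hH hk hu0 hu0n (by rw [hku]; exact hu0) hu1 hkout
  obtain ⟨hC0, hC1⟩ : (∀ e ∈ D 0, Ctr hF K e) ∧ ∀ e ∈ D 1, Ctr hF K e := by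
    rcases hctr with hh | hh
    · refine ⟨hh, fun y hy => ?_⟩
      obtain ⟨x, hx, rfl⟩ := hinv hfin hj0 y hy
      exact (hh x hx).conj hjK hj
    · refine ⟨fun y hy => ?_, hh⟩
      obtain ⟨x, hx, rfl⟩ := hinv hfin.symm hj1 y hy
      exact (hh x hx).conj hjK hj
  have move : ∀ {x a : V} {c : F}, Ctr hF K x → Ctr hF K a → h a a = 0 → c + σ c = 0 →
      Ctr hF K (x + (c * h x a) • a) := by
    intro x a c hx ha haa hcs
    obtain ⟨m, hm, hmT⟩ := exists_T (hF := hF) haa hcs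
    have hmK : m ∈ K := ha m c hcs (Matrix.ext_of_mulVec_single fun i => by rw [hmT, tmat_mulVec])
    have := hx.conj hmK hm
    rwa [hmT x] at this
  obtain ⟨a, ha, b, hb, rfl⟩ := P.split z
  by_cases hb0 : b = 0
  · rw [hb0, add_zero]; exact hC0 a ha
  have haa := hts 0 a ha a ha
  have hbb := hts 1 b hb b hb
  have hskew : h b a + σ (h b a) = 0 := by
    rw [h_swap hF]
    rw [h_add_left, h_add_right hF, h_add_right hF, haa, hbb] at hz
    linear_combination hz
  have hinv' : ∀ {x : F}, x + σ x = 0 → x⁻¹ + σ x⁻¹ = 0 := fun {x} hx => by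
    rw [map_inv₀, show σ x = -x by linear_combination hx, inv_neg, add_neg_cancel]
  by_cases hab : h b a = 0
  · obtain ⟨a1, ha1, hb1, -⟩ := P.symm.exists_in (hF := hF) (U := (⊥ : Submodule F V)) bot_le hb
      (by rwa [Submodule.mem_bot])
    obtain ⟨c, hc0, hcs⟩ := exists_skew hF
    have hcb : h b (c • a1) = -c := by
      rw [h_smul_right hF, hb1, mul_one]; linear_combination hcs
    have hskc : (-c : F) + σ (-c) = 0 := by rw [map_neg]; linear_combination -hcs
    have h2 : Ctr hF K (b + c • a1) := by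
      have := move (c := (-c)⁻¹) (hC1 b hb) ((hC0 a1 ha1).smul c)
        (hts 0 _ ((D 0).smul_mem c ha1) _ ((D 0).smul_mem c ha1)) (hinv' hskc)
      rwa [hcb, inv_mul_cancel₀ (neg_ne_zero.2 hc0), one_smul] at this
    have hd' : a - c • a1 ∈ D 0 := (D 0).sub_mem ha ((D 0).smul_mem c ha1)
    have e' : h (b + c • a1) (a - c • a1) = c := by
      rw [h_add_left, hts 0 _ ((D 0).smul_mem c ha1) _ hd', h_sub_right hF, hab, hcb]; ring
    have := move (c := c⁻¹) h2 (hC0 _ hd') (hts 0 _ hd' _ hd') (hinv' hcs)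
    rw [e', inv_mul_cancel₀ hc0, one_smul] at this
    convert this using 1
    abel
  · have := move (c := (h b a)⁻¹) (hC1 b hb) (hC0 a ha) haa (hinv' hskew)
    rwa [inv_mul_cancel₀ hab, one_smul, add_comm] at this

end CfsgLib.MaxSub.SUFour
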